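import Cfsg.Agent.H11.Res
import Cfsg.Agent.H11.Orth2
import Cfsg.Agent.H10.SL
import Cfsg.Agent.S0278
import Cfsg.Agent.S0280

/-! Low-dimensional isomorphisms of orthogonal groups: the counting criteria `iso_of`, `iso_of_simple`, two-sided matrix
representations (`exists_rep`), alternating `4 × 4` matrices (`alt`, `pf`, `star`), the norm form (`exists_norm_equiv`), `mem_SU`. -/

set_option autoImplicit false

namespace H19.Iso
open Module Matrix H11 H11.PForm Subgroup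
open scoped MatrixGroups

variable {F : Type*} [Field F] {V : Type*} [AddCommGroup V] [Module F V] {S : PForm (orthP F) V}

/-- `PΩ` of an orthogonal space -/
abbrev PO (S : PForm (orthP F) V) := commutator S.Isom ⧸ center (commutator S.Isom)

theorem equiv_of_card {G P Q : Type*} [Group G] [Finite G] [Group P] [Group Q] [Finite Q] (ψ : G →* Q) (π : G →* P)
    (hπ : Function.Surjective π) (hk : ψ.ker ≤ π.ker) (hc : Nat.card P = Nat.card Q) : Nonempty (Q ≃* P) := by
  have := Finite.of_surjective π hπ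
  let l : ψ.range →* P := (QuotientGroup.lift ψ.ker π hk).comp (QuotientGroup.quotientKerEquivRange ψ).symm.toMonoidHom
  have hl : Function.Surjective l := fun y => by
    obtain ⟨g, rfl⟩ := hπ y
    exact ⟨QuotientGroup.quotientKerEquivRange ψ g, by simp [l]⟩
  have h1 := Nat.card_le_card_of_surjective l hl
  have h2 : ψ.range = ⊤ := eq_top_of_le_card _ (hc ▸ h1)
  have h3 : Function.Bijective l := hl.bijective_of_nat_card_le (hc ▸ card_le_card_group _)
  exact ⟨((MulEquiv.subgroupCongr h2).trans topEquiv).symm.trans (MulEquiv.ofBijective l h3)⟩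

variable [FiniteDimensional F V] [Finite F]

theorem exists_psi {G : Type*} [Group G] (hS : S.Nondeg) (h4 : S.NotO4) (h3 : 3 ≤ finrank F V) (φ : G →* S.Isom)
    (hχ : ∀ χ : G →* ℤˣ, χ = 1) : ∃ ψ : G →* PO S, ∀ g, ψ g = 1 → ∃ c : F, ∀ x, (φ g).1 x = c • x := by
  have hΩ : ∀ g, φ g ∈ commutator S.Isom := fun g =>
    (hS.mem_commutator_iff h4 _).2 ⟨congr($(hχ (hS.dick.comp φ)) g), congr($(hχ (hS.spin.comp φ)) g)⟩
  obtain ⟨e, f, H⟩ := hS.orth_exists_hyp h3
  exact ⟨(QuotientGroup.mk' _).comp (φ.codRestrict _ hΩ), fun g hg =>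
    (H.mem_center_iff_scalar hS (Or.inr h3) (hS.orth_E_le_commutator h4) _).1 ((QuotientGroup.eq_one_iff _).1 hg)⟩

theorem iso_of {G P : Type*} [Group G] [Finite G] [Group P] (hS : S.Nondeg) (h4 : S.NotO4) (h3 : 3 ≤ finrank F V)
    (φ : G →* S.Isom) (hχ : ∀ χ : G →* ℤˣ, χ = 1) (π : G →* P) (hπ : Function.Surjective π)
    (hk : ∀ g (c : F), (∀ x, (φ g).1 x = c • x) → π g = 1) (hc : Nat.card P = Nat.card (PO S)) : Nonempty (PO S ≃* P) := by
  obtain ⟨ψ, h⟩ := exists_psi hS h4 h3 φ hχ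
  have : Finite S.Isom := finite_isom
  exact equiv_of_card ψ π hπ (fun g hg => (h g hg).elim (hk g)) hc

theorem chi_of_perfect {G : Type*} [Group G] (h : commutator G = ⊤) (χ : G →* ℤˣ) : χ = 1 :=
  MonoidHom.ext fun g => Abelianization.commutator_subset_ker χ (h ▸ mem_top g)

theorem iso_of_simple {G : Type*} [Group G] [Finite G] (hS : S.Nondeg) (h4 : S.NotO4) (h3 : 3 ≤ finrank F V)
    (φ : G →* S.Isom) (hG : commutator G = ⊤) (hs : IsSimpleGroup (G ⧸ center G))
    (hk : ∃ g, ∀ c : F, ¬ ∀ x, (φ g).1 x = c • x) (hc : Nat.card (G ⧸ center G) = Nat.card (PO S)) :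
    Nonempty (PO S ≃* G ⧸ center G) := by
  obtain ⟨ψ, h⟩ := exists_psi hS h4 h3 φ (chi_of_perfect hG)
  have hπ := QuotientGroup.mk'_surjective (center G)
  have : Finite S.Isom := finite_isom
  refine equiv_of_card ψ _ hπ ?_ hc
  rcases (Normal.map inferInstance (QuotientGroup.mk' (center G)) hπ (H := ψ.ker)).eq_bot_or_eq_top with e | e
  · exact (Subgroup.map_eq_bot_iff _).1 e
  · obtain ⟨g, hg⟩ := hk
    have : commutator G ≤ ψ.ker := commutator_le.2 fun a _ b _ => by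
      obtain ⟨n, hn, e'⟩ : QuotientGroup.mk' (center G) a ∈ ψ.ker.map _ := e ▸ mem_top _
      obtain ⟨z, hz, rfl⟩ := (QuotientGroup.mk'_eq_mk' _).1 e'
      rw [MonoidHom.mem_ker, map_commutatorElement, map_mul, show ψ n = 1 from hn, one_mul, ← map_commutatorElement,
        commutatorElement_eq_one_iff_mul_comm.2 (mem_center_iff.1 hz b).symm, map_one]
    obtain ⟨c, hc⟩ := h g (this (hG ▸ mem_top g))
    exact (hg c hc).elim

omit [Finite F] in
theorem exists_rep {G K n : Type*} [Group G] [Field K] [Algebra F K] [Fintype n] [DecidableEq n] (hS : S.Nondeg)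
    (a b : G → Matrix n n K) (ha : ∀ g h, a (g * h) = a g * a h) (hb : ∀ g h, b (g * h) = b h * b g)
    (m : V →ₗ[F] Matrix n n K) (hm : Function.Injective m) (hr : ∀ g v, ∃ w, m w = a g * m v * b g ∧ S.q w = S.q v) :
    ∃ φ : G →* S.Isom, ∀ g v, m ((φ g).1 v) = a g * m v * b g := by
  choose f h1 h2 using hr
  let L : G → V →ₗ[F] V := fun g => ⟨⟨f g, fun x y => hm (by simp [h1, Matrix.mul_add, Matrix.add_mul])⟩,
    fun c x => hm (by simp [h1])⟩
  refine ⟨MonoidHom.mk' (fun g => mkIsom hS (L g) (orth_isIsom (h2 g))) fun g h => isom_ext fun x => hm ?_, h1⟩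
  change m (f (g * h) x) = m (f g (f h x))
  simp only [h1, ha, hb, Matrix.mul_assoc]

omit [FiniteDimensional F V] in
theorem chi_SL2 (h : ∃ c : F, c ≠ 0 ∧ c ≠ 1) (χ : SL(2, F) →* ℤˣ) : χ = 1 := by
  by_cases h2 : (2 : F) = 0
  · obtain ⟨c, c0, c1⟩ := h
    exact chi_of_perfect (SL2.commutator_eq_top c0 fun e => c1 (sub_eq_zero.1 (pow_eq_zero_iff two_ne_zero |>.1
      (by linear_combination e + (1 - c) * h2)))) χ
  · refine MonoidHom.ext fun g => SL2.transvection_induction (fun g => χ g = 1) (fun i j h c => ?_)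
      (fun a b ha hb => by simp [ha, hb]) g
    rw [show c = c / 2 + c / 2 by field_simp; ring, SpecialLinearGroup.transvection_add, map_mul, Int.units_mul_self]

theorem inv_mul_val {K n : Type*} [Field K] [Fintype n] [DecidableEq n] (g : SpecialLinearGroup n K) : g⁻¹.1 * g.1 = 1 :=
  congrArg Subtype.val (inv_mul_cancel g)

theorem mem_center_of_smul {K n : Type*} [Field K] [Fintype n] [DecidableEq n] {g : SpecialLinearGroup n K} {c : K}
    (h : g.1 = c • 1) : g ∈ center (SpecialLinearGroup n K) :=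
  mem_center_iff.2 fun x => Subtype.ext (by simp [h])

omit [FiniteDimensional F V] [Finite F] in
theorem nonempty_of_eqv {W : Type*} [AddCommGroup W] [Module F W] {T : PForm (orthP F) W} (h : Eqv S T) :
    Nonempty (PO S ≃* PO T) := h.nonempty_mulEquiv.map fun e => centerQuotCongr (commutatorCongr e)

section Alt
variable {R : Type*} [CommRing R]

/-- alternating `4 × 4` matrices -/
def alt (a b c d e f : R) : Matrix (Fin 4) (Fin 4) R := !![0, a, b, c; -a, 0, d, e; -b, -d, 0, f; -c, -e, -f, 0]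

theorem det4 (g : Matrix (Fin 4) (Fin 4) R) : g.det =
    (g 0 0 * g 1 1 - g 0 1 * g 1 0) * (g 2 2 * g 3 3 - g 2 3 * g 3 2) - (g 0 0 * g 1 2 - g 0 2 * g 1 0) * (g 2 1 * g 3 3 - g 2 3 * g 3 1)
    + (g 0 0 * g 1 3 - g 0 3 * g 1 0) * (g 2 1 * g 3 2 - g 2 2 * g 3 1) + (g 0 1 * g 1 2 - g 0 2 * g 1 1) * (g 2 0 * g 3 3 - g 2 3 * g 3 0)
    - (g 0 1 * g 1 3 - g 0 3 * g 1 1) * (g 2 0 * g 3 2 - g 2 2 * g 3 0) + (g 0 2 * g 1 3 - g 0 3 * g 1 2) * (g 2 0 * g 3 1 - g 2 1 * g 3 0) := by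
  simp [det_succ_row_zero, Fin.sum_univ_succ, Fin.succAbove]
  ring

theorem alt_conj (g : Matrix (Fin 4) (Fin 4) R) (a b c d e f : R) : ∃ a' b' c' d' e' f', g * alt a b c d e f * gᵀ = alt a' b' c' d' e' f' ∧
    a' * f' - b' * e' + c' * d' = g.det * (a * f - b * e + c * d) ∧
    gᵀ * alt f' (-e') d' c' (-b') a' * g = g.det • alt f (-e) d c (-b) a := by
  let x : Fin 4 → Fin 4 → R := fun i j => (g i 0 * g j 1 - g i 1 * g j 0) * a + (g i 0 * g j 2 - g i 2 * g j 0) * b +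
    (g i 0 * g j 3 - g i 3 * g j 0) * c + (g i 1 * g j 2 - g i 2 * g j 1) * d + (g i 1 * g j 3 - g i 3 * g j 1) * e +
    (g i 2 * g j 3 - g i 3 * g j 2) * f
  refine ⟨x 0 1, x 0 2, x 0 3, x 1 2, x 1 3, x 2 3, ?_, by simp only [x, det4]; ring, ?_⟩
  · ext i j
    fin_cases i <;> fin_cases j <;> simp [alt, x, mul_apply, Fin.sum_univ_four] <;> ring
  · ext i j
    fin_cases i <;> fin_cases j <;> simp [alt, x, mul_apply, Fin.sum_univ_four, det4] <;> ring

theorem alt_inj {a b c d e f a' b' c' d' e' f' : R} (h : alt a b c d e f = alt a' b' c' d' e' f') :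
    a = a' ∧ b = b' ∧ c = c' ∧ d = d' ∧ e = e' ∧ f = f' :=
  ⟨congr($h 0 1), congr($h 0 2), congr($h 0 3), congr($h 1 2), congr($h 1 3), congr($h 2 3)⟩

end Alt

theorem mem_SU {K : Type*} [Field K] {σ : K →+* K} {n q : ℕ} (hq : ∀ t, σ t = t ^ q) {g : SL(n, K)} :
    g ∈ Cfsg.SU n K q ↔ (g.1.map σ)ᵀ * g.1 = 1 := by
  have : ∀ u v, Cfsg.hermForm n K q u v = (σ ∘ v) ⬝ᵥ u := fun u v => by simp [Cfsg.hermForm, dotProduct, hq, mul_comm]
  have k : ∀ u v, Cfsg.hermForm n K q (g.1 *ᵥ u) (g.1 *ᵥ v) = (σ ∘ v) ⬝ᵥ (((g.1.map σ)ᵀ * g.1) *ᵥ u) := fun u v => by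
    rw [this, ← mulVec_mulVec, dotProduct_mulVec (σ ∘ v), vecMul_transpose]; congr 1; funext i; exact RingHom.map_mulVec ..
  refine ⟨fun a => ?_, fun a u v => (k u v).trans (by rw [a, one_mulVec, this])⟩
  ext i j
  have := (k _ _).symm.trans ((a (Pi.single j 1) (Pi.single i 1)).trans (this _ _))
  simpa [one_apply, Pi.single_apply, dotProduct, apply_ite σ, eq_comm] using this

theorem exists_res {K : Type*} [Field K] [Finite K] [Algebra F K] {σ : K →+* K} (h2 : finrank F K = 2) (hσ : ∀ a, σ (σ a) = a)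
    (hne : σ ≠ RingHom.id K) (hf : ∀ x, σ x = x ↔ ∃ a, algebraMap F K a = x) {k : ℕ} {a b : F} (hab : Aniso a b) :
    ∃ e : ((Fin (2 * k) ⊕ Fin (2 * k)) ⊕ Fin 2 → F) ≃ₗ[F] (Fin (2 * k + 1) → K),
      ∀ v, algebraMap F K (qMinus (2 * k) F a b v) = ∑ i, σ (e v i) * e v i := by
  obtain ⟨l, hl⟩ := exists_left_inv (F := F) (K := K)
  have hσ' : ∀ a, σ (algebraMap F K a) = algebraMap F K a := fun a => (hf _).2 ⟨a, rfl⟩
  have hU := stdUnit_nondeg hσ hne (Fin (2 * k + 1))
  have : FiniteDimensional F K := Module.finite_of_finrank_pos (by omega)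
  obtain ⟨e, he⟩ := ((resO_nondeg hσ' l hl hne hU).eqv_sMinus (m := 2 * k) (by simp [finrank_pi_fintype, h2, mul_comm])
    (by rw [resO_hasTS_iff hσ' hf l hl hne h2 hU (by simp)]; simp) hab).symm
  exact ⟨e, fun v => (congrArg _ (he.orth_q v)).symm.trans (resO_q_eq hσ' hf l hl _)⟩

theorem exists_norm_equiv {K : Type*} [Field K] [Finite K] [Algebra F K] {σ : K →+* K} (h2 : finrank F K = 2)
    (hσ : ∀ a, σ (σ a) = a) (hne : σ ≠ RingHom.id K) (hf : ∀ x, σ x = x ↔ ∃ a, algebraMap F K a = x) {a b : F}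
    (hab : Aniso a b) : ∃ e : (Fin 2 → F) ≃ₗ[F] K, ∀ z, algebraMap F K (z 0 ^ 2 + a * z 0 * z 1 + b * z 1 ^ 2) = σ (e z) * e z := by
  obtain ⟨e, he⟩ := exists_res h2 hσ hne hf (k := 0) hab
  refine ⟨(LinearEquiv.funCongrLeft F F (Equiv.emptySum (Fin 0 ⊕ Fin 0) (Fin 2))).trans
    (e.trans (LinearEquiv.funUnique (Fin 1) F K)), fun z => ?_⟩
  simpa [qMinus_apply] using he (LinearEquiv.funCongrLeft F F (Equiv.emptySum (Fin 0 ⊕ Fin 0) (Fin 2)) z)

section Rows
variable {F K : Type*} [Field F] [Fintype F] [Field K] [Fintype K]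

theorem po_three (h2 : (2 : F) ≠ 0) : Nonempty (PO (sOdd 1 F) ≃* PSL(2, F)) := by
  have hS := sOdd_nondeg (F := F) 1 h2
  let m : (Unit ⊕ (Fin 1 ⊕ Fin 1) → F) →ₗ[F] Matrix (Fin 2) (Fin 2) F :=
    ⟨⟨fun v => !![v (.inl ()), v (.inr (.inl 0)); v (.inr (.inr 0)), -v (.inl ())], fun x y => by
      ext i j; fin_cases i <;> fin_cases j <;> simp [add_comm]⟩, fun c x => by ext i j; fin_cases i <;> fin_cases j <;> simp⟩
  have hm : ∀ v, m v = !![v (.inl ()), v (.inr (.inl 0)); v (.inr (.inr 0)), -v (.inl ())] := fun _ => rfl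
  have hq : ∀ v, (sOdd 1 F).q v = -(m v).det := fun v => by
    change qOdd 1 F v = _
    simp [hm, qOdd_apply, det_fin_two]; ring
  obtain ⟨φ, hφ⟩ := exists_rep (G := SL(2, F)) hS (fun g => g.1) (fun g => g⁻¹.1) (fun _ _ => rfl) (fun _ _ => by simp) m
    (fun x y h => by
      ext (_ | i | i)
      exacts [congr($h 0 0), Subsingleton.elim i 0 ▸ congr($h 0 1), Subsingleton.elim i 0 ▸ congr($h 1 0)]) fun g v => by
      have t : (g.1 * m v * g⁻¹.1).trace = 0 := by
        rw [trace_mul_cycle, inv_mul_val, one_mul]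
        simp [hm]
      have e : m (Sum.elim (fun _ => (g.1 * m v * g⁻¹.1) 0 0) (Sum.elim (fun _ => (g.1 * m v * g⁻¹.1) 0 1)
          fun _ => (g.1 * m v * g⁻¹.1) 1 0)) = g.1 * m v * g⁻¹.1 := by
        rw [trace_fin_two] at t
        rw [hm, eta_fin_two (g.1 * m v * g⁻¹.1), eq_neg_of_add_eq_zero_right t]
        rfl
      exact ⟨_, e, by rw [hq, hq, e, det_mul, det_mul, g.2, g⁻¹.2, one_mul, mul_one]⟩
  refine iso_of hS (notO4_of_two_ne h2) (by simp) φ (chi_SL2 ⟨-1, by simp, fun h => h2 (by linear_combination -h)⟩)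
    (QuotientGroup.mk' _) (QuotientGroup.mk'_surjective _) (fun g c h => (QuotientGroup.eq_one_iff _).2 ?_) ?_
  · have k : ∀ v, g.1 * m v = c • m v * g.1 := fun v => by
      rw [← map_smul, ← h, hφ, Matrix.mul_assoc, inv_mul_val, Matrix.mul_one]
    have k1 := k (Pi.single (.inl ()) 1)
    have k2 := k (Pi.single (.inr (.inl 0)) 1)
    have k3 := k (Pi.single (.inr (.inr 0)) 1)
    have a1 := congr($k1 0 0)
    have a2 := congr($k2 0 1)
    have a3 := congr($k2 1 1)
    have a4 := congr($k3 0 0)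
    have d := (det_fin_two g.1).symm.trans g.2
    simp [hm, mul_apply, Fin.sum_univ_two] at a1 a2 a3 a4
    refine mem_center_of_smul (c := g.1 0 0) ?_
    have c1 : c = 1 := by linear_combination (-g.1 1 1) * a1 + (1 - c) * (d + g.1 0 1 * a3)
    have : g.1 0 0 = g.1 1 1 := by rw [a2, c1, one_mul]
    ext i j; fin_cases i <;> fin_cases j <;> simp [a3, a4, this]
  · have := hS.card_POmega_odd (m := 1) le_rfl (by simp)
    have e := H10.card_PSL2 (F := F)
    obtain ⟨k, hk⟩ := two_ne_zero_iff_odd.1 h2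
    rw [Nat.card_eq_fintype_card (α := F)] at this
    rw [hk] at e this
    simp only [Nat.add_sub_cancel, Nat.gcd_mul_right_right, Finset.prod_range_one, zero_add, mul_one, one_pow, pow_one] at e this
    rw [show (2 * k + 1) ^ 2 - 1 = 2 * k * (2 * k + 1 + 1) from Nat.sub_eq_of_eq_add (by ring), ← mul_assoc, ← e] at this
    exact (Nat.eq_of_mul_eq_mul_left two_pos this).symm

theorem sq_sub (q : ℕ) : q ^ 2 - 1 = (q - 1) * (q + 1) := by
  rw [mul_comm, ← Nat.sq_sub_sq, one_pow]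

theorem gcd_four_sq (q : ℕ) (h : 0 < q) : Nat.gcd 4 (q ^ 2 - 1) = Nat.gcd 2 (q - 1) ^ 2 := by
  obtain ⟨k, rfl | rfl⟩ := Nat.even_or_odd' q
  · obtain ⟨k, rfl⟩ : ∃ j, k = j + 1 := ⟨k - 1, by omega⟩
    rw [show (2 * (k + 1)) ^ 2 - 1 = 3 + 4 * (k ^ 2 + 2 * k) from Nat.sub_eq_of_eq_add (by ring),
      show 2 * (k + 1) - 1 = 1 + 2 * k by omega]
    simp
  · rw [show (2 * k + 1) ^ 2 - 1 = 4 * (k ^ 2 + k) from Nat.sub_eq_of_eq_add (by ring)]
    simp

theorem po_four_plus (h : ∃ c : F, c ≠ 0 ∧ c ≠ 1) : Nonempty (PO (sPlus 2 F) ≃* PSL(2, F) × PSL(2, F)) := by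
  have hS := sPlus_nondeg 2 F
  let m : (Fin 2 ⊕ Fin 2 → F) →ₗ[F] Matrix (Fin 2) (Fin 2) F :=
    ⟨⟨fun v => !![v (.inl 0), v (.inl 1); -v (.inr 1), v (.inr 0)], fun x y => by
      ext i j; fin_cases i <;> fin_cases j <;> simp [add_comm]⟩, fun c x => by ext i j; fin_cases i <;> fin_cases j <;> simp⟩
  have hm : ∀ v, m v = !![v (.inl 0), v (.inl 1); -v (.inr 1), v (.inr 0)] := fun _ => rfl
  have hq : ∀ v, (sPlus 2 F).q v = (m v).det := fun v => by
    change qPlus 2 F v = _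
    simp [hm, qPlus_apply, det_fin_two]
  have hs : ∀ N, ∃ v, m v = N := fun N => ⟨Sum.elim ![N 0 0, N 0 1] ![N 1 1, -N 1 0], by
    ext i j; fin_cases i <;> fin_cases j <;> simp [hm]⟩
  obtain ⟨φ, hφ⟩ := exists_rep (G := SL(2, F) × SL(2, F)) hS (fun g => g.1.1) (fun g => g.2⁻¹.1) (fun _ _ => rfl)
    (fun _ _ => by simp) m (fun x y h => by
      ext (i | i) <;> fin_cases i
      exacts [congr($h 0 0), congr($h 0 1), congr($h 1 1), neg_injective congr($h 1 0)]) fun g v => by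
      obtain ⟨w, e⟩ := hs (g.1.1 * m v * g.2⁻¹.1)
      exact ⟨w, e, by rw [hq, hq, e, det_mul, det_mul, g.1.2, g.2⁻¹.2, one_mul, mul_one]⟩
  refine iso_of hS (Or.inl h) (by simp) φ (fun χ => MonoidHom.ext fun g => ?_)
    ((QuotientGroup.mk' _).prodMap (QuotientGroup.mk' _))
    ((QuotientGroup.mk'_surjective _).prodMap (QuotientGroup.mk'_surjective _)) (fun g c h => ?_) ?_
  · rw [← Prod.fst_mul_snd g, map_mul]
    exact (congrArg₂ (· * ·) congr($(chi_SL2 h (χ.comp (MonoidHom.inl _ _))) g.1)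
      congr($(chi_SL2 h (χ.comp (MonoidHom.inr _ _))) g.2)).trans (by simp)
  · have k : ∀ N, g.1.1 * N = c • N * g.2.1 := fun N => by
      obtain ⟨v, rfl⟩ := hs N
      rw [← map_smul, ← h, hφ, Matrix.mul_assoc, inv_mul_val, Matrix.mul_one]
    have k1 : g.1.1 = c • g.2.1 := by simpa using k 1
    have c0 : c ≠ 0 := fun e => by simpa [k1, e] using g.1.2
    have k2 : ∀ N, g.2.1 * N = N * g.2.1 := fun N => smul_right_injective _ c0 (by simpa [k1] using k N)
    exact Prod.ext ((QuotientGroup.eq_one_iff _).2 (mem_center_iff.2 fun x => Subtype.ext (by simp [k1, k2])))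
      ((QuotientGroup.eq_one_iff _).2 (mem_center_iff.2 fun x => Subtype.ext (k2 _).symm))
  · have := hS.card_POmega_plus (Or.inl h) (m := 2) le_rfl (by simp) (sPlus_hasTS 2 F)
    have e := H10.card_PSL2 (F := F)
    rw [Nat.card_eq_fintype_card (α := F), gcd_four_sq _ Fintype.card_pos] at this
    simp only [Nat.add_one_sub_one, Finset.prod_range_one, zero_add, mul_one, sq_sub] at this
    refine Nat.eq_of_mul_eq_mul_left (pow_pos (Nat.gcd_pos_of_pos_left (Fintype.card F - 1) two_pos) 2) ?_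
    rw [this, Nat.card_prod, ← sq, ← mul_pow, e]
    ring

theorem po_four_minus {q : ℕ} (hF : Fintype.card F = q) (hK : Fintype.card K = q ^ 2) {a b : F} (hab : Aniso a b) :
    Nonempty (PO (sMinus 1 F a b) ≃* PSL(2, K)) := by
  obtain ⟨_, σ, h2, -, hσ, hne, hf⟩ := exists_quad_setup hF hK
  obtain ⟨e, he⟩ := exists_norm_equiv h2 hσ hne hf hab
  have hσ' : ∀ a, σ (algebraMap F K a) = algebraMap F K a := fun a => (hf _).2 ⟨a, rfl⟩
  have hS := sMinus_nondeg 1 hab
  have hn := sMinus_not_hasTS 1 hab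
  have hi := (algebraMap F K).injective
  let m : ((Fin 1 ⊕ Fin 1) ⊕ Fin 2 → F) →ₗ[F] Matrix (Fin 2) (Fin 2) K :=
    ⟨⟨fun v => !![algebraMap F K (v (.inl (.inl 0))), e (v ∘ .inr); σ (e (v ∘ .inr)), -algebraMap F K (v (.inl (.inr 0)))],
      fun x y => by ext i j; fin_cases i <;> fin_cases j <;> simp [add_comm, Pi.add_comp]⟩, fun c x => by
        ext i j; fin_cases i <;> fin_cases j <;> simp [Pi.smul_comp, Algebra.smul_def (A := K), hσ']⟩
  have hm : ∀ v, m v = !![algebraMap F K (v (.inl (.inl 0))), e (v ∘ .inr); σ (e (v ∘ .inr)),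
    -algebraMap F K (v (.inl (.inr 0)))] := fun _ => rfl
  have hq : ∀ v, algebraMap F K ((sMinus 1 F a b).q v) = -(m v).det := fun v => by
    change algebraMap F K (qMinus 1 F a b v) = _
    rw [qMinus_apply, map_add]
    erw [he (v ∘ .inr)]
    simp [hm, det_fin_two]; ring
  obtain ⟨φ, hφ⟩ := exists_rep (G := SL(2, K)) hS (fun g => g.1) (fun g => (g.1.map σ)ᵀ) (fun _ _ => rfl)
    (fun _ _ => by simp [Matrix.map_mul]) m (fun x y h => by
      ext ((i | i) | i)
      exacts [Subsingleton.elim i 0 ▸ hi congr($h 0 0), Subsingleton.elim i 0 ▸ hi (neg_injective congr($h 1 1)),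
        congrFun (e.injective congr($h 0 1)) i]) fun g v => by
      set N := g.1 * m v * (g.1.map σ)ᵀ with hN
      have t : ∀ i j, σ (N i j) = N j i := fun i j => by
        simp [hN, hm, mul_apply, Fin.sum_univ_two, hσ, hσ']; ring
      obtain ⟨x, hx⟩ := (hf _).1 (t 0 0)
      obtain ⟨y, hy⟩ := (hf _).1 (t 1 1)
      have e' : m (Sum.elim (Sum.elim (fun _ => x) fun _ => -y) (e.symm (N 0 1))) = N := by
        ext i j; fin_cases i <;> fin_cases j <;> simp [hm, hx, hy, t]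
      refine ⟨_, e', hi ?_⟩
      rw [hq, hq, e', det_mul, det_mul, det_transpose, ← RingHom.mapMatrix_apply, ← RingHom.map_det, g.2, map_one, one_mul,
        mul_one]
  have q2 := hF ▸ Fintype.one_lt_card (α := F)
  have h4 : 4 ≤ Nat.card K := by rw [Nat.card_eq_fintype_card, hK]; nlinarith
  obtain ⟨θ, hθ⟩ := exists_σ_ne hne
  have hθ' : ∃ c : K, c ≠ 0 ∧ c ^ 2 ≠ 1 := ⟨θ, fun e => hθ (by simp [e]), fun e => hθ (by
    rcases sq_eq_one_iff.1 e with rfl | rfl <;> simp)⟩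
  refine iso_of_simple hS (Or.inr (Or.inr hn)) (by simp) φ (hθ'.elim fun c hc => SL2.commutator_eq_top hc.1 hc.2)
    (ProjectiveSpecialLinearGroup.rank_two_simple h4) ⟨⟨!![1, 1; 0, 1], by simp⟩, fun c h => ?_⟩ ?_
  · have := congr($((hφ _ (Pi.single (.inl (.inr 0)) 1)).symm.trans ((congrArg m (h _)).trans (map_smul m c _))) 0 0)
    simp [hm, mul_apply, Fin.sum_univ_two, Function.comp_def, ← Pi.zero_def] at this
  · have := hS.card_POmega_minus (m := 2) le_rfl (by simp) hn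
    have e := H10.card_PSL2 (F := K)
    rw [Nat.card_eq_fintype_card (α := F), hF] at this
    have g : Nat.gcd 4 (q ^ 2 + 1) = Nat.gcd 2 (q ^ 2 - 1) := by
      obtain ⟨k, rfl | rfl⟩ := Nat.even_or_odd' q
      · rw [show (2 * k) ^ 2 + 1 = 1 + 4 * k ^ 2 by ring, show (2 * k) ^ 2 - 1 = 1 + 2 * (2 * k ^ 2 - 1) by
          have : 0 < k ^ 2 := pow_pos (by omega) 2
          rw [mul_pow]; omega]
        simp
      · rw [show (2 * k + 1) ^ 2 + 1 = 2 + 4 * (k ^ 2 + k) by ring,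
          show (2 * k + 1) ^ 2 - 1 = 2 * (2 * (k ^ 2 + k)) from Nat.sub_eq_of_eq_add (by ring)]
        simp
    rw [hK, ← g] at e
    refine Nat.eq_of_mul_eq_mul_left (Nat.gcd_pos_of_pos_left (q ^ 2 + 1) four_pos) ?_
    rw [this, e]
    simp; ring

theorem gcd_four_cube (q : ℕ) : Nat.gcd 4 (q ^ 3 - 1) = Nat.gcd 4 (q - 1) ∧ Nat.gcd 4 (q ^ 3 + 1) = Nat.gcd 4 (q + 1) := by
  have k : ∀ a b : ℕ, Odd b → Nat.gcd 4 (a * b) = Nat.gcd 4 a := fun a b h =>
    Nat.Coprime.gcd_mul_right_cancel_right _ (Nat.Coprime.pow_right 2 (Nat.coprime_two_right.2 h))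
  obtain _ | q := q
  · simp
  have := Nat.even_mul_succ_self (q + 1)
  have := Nat.even_mul_succ_self q
  rw [show (q + 1) ^ 3 - 1 = (q + 1 - 1) * ((q + 1) * (q + 1 + 1) + 1) from Nat.sub_eq_of_eq_add (by simp; ring),
    show (q + 1) ^ 3 + 1 = (q + 1 + 1) * (q * (q + 1) + 1) by ring]
  exact ⟨k _ _ (Even.add_one ‹_›), k _ _ (Even.add_one ‹_›)⟩

/-- a cyclic permutation matrix -/
def cyc (F : Type*) [Field F] : SL(4, F) := ⟨!![0, 0, 1, 0; 1, 0, 0, 0; 0, 1, 0, 0; 0, 0, 0, 1], by simp [det4]⟩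

theorem po_six_plus : Nonempty (PO (sPlus 3 F) ≃* PSL(4, F)) := by
  have hS := sPlus_nondeg 3 F
  let m : (Fin 3 ⊕ Fin 3 → F) →ₗ[F] Matrix (Fin 4) (Fin 4) F :=
    ⟨⟨fun v => alt (v (.inl 0)) (v (.inl 1)) (v (.inl 2)) (v (.inr 2)) (-v (.inr 1)) (v (.inr 0)), fun x y => by
      ext i j; fin_cases i <;> fin_cases j <;> simp [alt, add_comm]⟩, fun c x => by
        ext i j; fin_cases i <;> fin_cases j <;> simp [alt]⟩
  have hm : ∀ v, m v = alt (v (.inl 0)) (v (.inl 1)) (v (.inl 2)) (v (.inr 2)) (-v (.inr 1)) (v (.inr 0)) := fun _ => rfl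
  obtain ⟨φ, hφ⟩ := exists_rep (G := SL(4, F)) hS (fun g => g.1) (fun g => g.1ᵀ) (fun _ _ => rfl)
    (fun _ _ => by simp) m (fun x y h => by
      obtain ⟨h1, h2, h3, h4, h5, h6⟩ := alt_inj h
      ext (i | i) <;> fin_cases i
      exacts [h1, h2, h3, h6, neg_injective h5, h4]) fun g v => by
      obtain ⟨a, b, c, d, e, f, h1, h2, -⟩ :=
        alt_conj g.1 (v (.inl 0)) (v (.inl 1)) (v (.inl 2)) (v (.inr 2)) (-v (.inr 1)) (v (.inr 0))
      refine ⟨Sum.elim ![a, b, c] ![f, -e, d], by simp [hm, h1], ?_⟩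
      change qPlus 3 F _ = qPlus 3 F _
      rw [g.2] at h2
      simp [qPlus_apply, Fin.sum_univ_three]
      linear_combination h2
  refine iso_of_simple hS (Or.inr (Or.inl (by simp))) (by simp) φ (H10.commutator_SL_eq_top (by simp))
    (H10.PSL_isSimpleGroup (by simp)) ⟨cyc F, fun c h => ?_⟩ ?_
  · have := congr($((hφ _ (Pi.single (.inl 0) 1)).symm.trans ((congrArg m (h _)).trans (map_smul m c _))) 1 2)
    simp [hm, mul_apply, Fin.sum_univ_four, cyc, alt] at this
  · have := hS.card_POmega_plus (Or.inr (Or.inl (by simp))) (m := 3) (by simp) (by simp) (sPlus_hasTS 3 F)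
    have e := H10.card_PSL (F := F) 4 (by simp)
    rw [Nat.card_eq_fintype_card (α := F), (gcd_four_cube _).1] at this
    obtain ⟨r, hr⟩ : ∃ r, Fintype.card F = r + 2 := ⟨_, (Nat.sub_add_cancel Fintype.one_lt_card).symm⟩
    rw [hr] at this e
    refine Nat.eq_of_mul_eq_mul_left (Nat.gcd_pos_of_pos_left (r + 2 - 1) four_pos)
      (Nat.eq_of_mul_eq_mul_left (show 0 < r + 2 - 1 by omega) ?_)
    rw [this, mul_left_comm, e]
    have k : ∀ i j, (r + 2) ^ (i + j) - (r + 2) ^ i = (r + 2) ^ i * ((r + 2) ^ j - 1) := fun i j => by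
      rw [Nat.mul_sub, pow_add, mul_one]
    simp [Fin.prod_univ_four, Finset.prod_range_succ, k 2 2, k 3 1, (pow_one (r + 2) ▸ k 1 3 :)]
    ring

theorem dih_of {G C : Type*} [Group G] [Group C] [Finite C] [IsCyclic C] (μ : C →* G) (hμ : Function.Injective μ)
    (hc : Nat.card G = 2 * Nat.card C) {b : G} (hb : b ∉ μ.range) (h2 : b * b = 1) (h : ∀ c, μ c * b * (μ c * b) = 1) :
    Nonempty (G ≃* DihedralGroup (Nat.card C)) := by
  have : Finite G := Nat.finite_of_card_ne_zero (by have := Nat.card_pos (α := C); omega)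
  have e := Nat.card_congr (MonoidHom.ofInjective hμ).toEquiv
  have := isCyclic_of_surjective _ (MonoidHom.ofInjective hμ).surjective
  have hi : μ.range.index = 2 := Nat.eq_of_mul_eq_mul_right (Nat.card_pos (α := C)) (by rw [← hc, e, index_mul_card])
  refine e ▸ H10.equiv_dihedral_of_index_two μ.range hi fun g hg => ?_
  obtain ⟨c, hc⟩ := (mul_mem_iff_of_index_two hi).2 (iff_of_false hg hb)
  obtain rfl : g = μ c * b := by rw [hc, mul_assoc, h2, mul_one]
  exact h c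

theorem dih_plus : Nonempty ((sPlus 1 F).Isom ≃* DihedralGroup (Fintype.card F - 1)) := by
  have H := sPlus_isHyp (F := F) (0 : Fin 1)
  have ε : (orthP F).ε = 1 := rfl
  have := dih_of H.tor H.tor_injective (b := H.swp 1) (by
    simpa [Nat.card_units] using (sPlus_nondeg 1 F).orth_card_plus le_rfl (by simp) (sPlus_hasTS 1 F)) (fun ⟨c, hc⟩ => by
      simpa using congr($hc.1 (Pi.single (.inl 0) 1) (.inr 0)))
    (H.isom_ext (by simp [ε]) (by simp [ε]) fun w hw => by simp [H.swp_perp _ hw]) fun c =>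
      H.isom_ext (by simp [ε, smul_smul]) (by simp [ε, smul_smul]) fun w hw => by simp [H.swp_perp _ hw, H.tor_perp _ hw]
  rwa [Nat.card_units, Nat.card_eq_fintype_card] at this

theorem dih_minus {a b : F} (hab : Aniso a b) : Nonempty ((sMinus 0 F a b).Isom ≃* DihedralGroup (Fintype.card F + 1)) := by
  obtain ⟨p, _, n, hp, hn⟩ := FiniteField.card' F
  have := Fact.mk hp
  have := Fintype.ofFinite (GaloisField p (n * 2))
  obtain ⟨_, σ, h2, hq, hσ, hne, hf⟩ := exists_quad_setup (K := GaloisField p (n * 2)) (F := F) rfl (by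
    rw [← Nat.card_eq_fintype_card, GaloisField.card _ _ (by simp), hn, pow_mul])
  obtain ⟨e', he'⟩ := exists_res h2 hσ hne hf (k := 0) hab
  obtain ⟨e, he⟩ : ∃ e : _ ≃ₗ[F] GaloisField p (n * 2), ∀ v, algebraMap F _ ((sMinus 0 F a b).q v) = σ (e v) * e v :=
    ⟨e'.trans (LinearEquiv.funUnique (Fin 1) F _), fun v => (he' v).trans (by simp)⟩
  have hσ' : ∀ a, σ (algebraMap F _ a) = algebraMap F _ a := fun a => (hf _).2 ⟨a, rfl⟩
  have hS := sMinus_nondeg 0 hab
  have hi := (algebraMap F (GaloisField p (n * 2))).injective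
  let μ : normOne σ →* (sMinus 0 F a b).Isom := MonoidHom.mk' (fun c => mkIsom hS
    (e.symm.toLinearMap ∘ₗ LinearMap.mulLeft F c.1.1 ∘ₗ e.toLinearMap) (orth_isIsom fun x => hi (by
      simp only [he]; simp; linear_combination (σ (e x) * e x) * mem_normOne.1 c.2))) fun c d => isom_ext fun x => by
        simp [mul_assoc]
  have hμ : ∀ c x, (μ c).1 x = e.symm (c.1 * e x) := fun _ _ => rfl
  let τ := mkIsom hS (e.symm.toLinearMap ∘ₗ (⟨⟨σ, map_add σ⟩, fun c x => by simp [Algebra.smul_def, hσ']⟩ : _ →ₗ[F] _) ∘ₗ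
    e.toLinearMap) (orth_isIsom fun x => hi (by simp only [he]; simp [hσ, mul_comm]))
  have hτ : ∀ x, τ.1 x = e.symm (σ (e x)) := fun _ => rfl
  have hc := card_normOne_unit hσ hne (q := Fintype.card F) (by rw [GaloisField.card _ _ (by simp), hn, pow_mul])
  have := dih_of μ (fun c d h => Subtype.ext (Units.ext (by simpa [hμ] using congr($h.1 (e.symm 1))))) (b := τ) (by
    simpa [hc] using hS.orth_card_minus (m := 1) (by simp) (sMinus_not_hasTS 0 hab)) (fun ⟨c, hc⟩ => hne (by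
      have k : ∀ x, c.1 * x = σ x := fun x => by simpa [hμ, hτ] using congr($hc.1 (e.symm x))
      ext x
      rw [← k, ← mul_one c.1.1, k, map_one, one_mul, RingHom.id_apply])) (isom_ext fun x => by simp [hτ, hσ]) fun c =>
      isom_ext fun x => by
        simp only [isom_mul_apply, isom_one_apply, hτ, hμ, map_mul, hσ, e.apply_symm_apply]
        rw [mul_left_comm, ← mul_assoc, mem_normOne.1 c.2, one_mul, e.symm_apply_apply]
  rwa [hc] at this

theorem su_two {q : ℕ} (hF : Fintype.card F = q) (hK : Fintype.card K = q ^ 2) : Nonempty (Cfsg.SU 2 K q ≃* SL(2, F)) := by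
  obtain ⟨_, σ, -, hq, hσ, hne, hf⟩ := exists_quad_setup hF hK
  have hσ' : ∀ a, σ (algebraMap F K a) = algebraMap F K a := fun a => (hf _).2 ⟨a, rfl⟩
  obtain ⟨θ, hθ⟩ := exists_trace_one hσ hne
  obtain ⟨α, hα⟩ := exists_norm_eq hσ hne (μ := -1) (by simp)
  obtain ⟨c, c0, hc⟩ := exists_mem_unit_Λ hσ hne
  have hc' : σ c = -c := eq_neg_of_add_eq_zero_right (mem_unitP_Λ.1 hc)
  let P : Matrix (Fin 2) (Fin 2) K := !![1, θ * c; α, -(σ θ * α * c)]
  have hP : (P.map σ)ᵀ * P = !![0, c; -c, 0] := by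
    ext i j; fin_cases i <;> fin_cases j <;> simp [P, mul_apply, Fin.sum_univ_two, hσ, hc']
    · linear_combination hα
    · linear_combination c * hθ - σ θ * c * hα
    · linear_combination -c * hθ + θ * c * hα
    · linear_combination -(θ * σ θ * c * c) * hα
  have hd : IsUnit P.det := Ne.isUnit (by
    rw [show P.det = -(α * c) by simp [P, det_fin_two]; linear_combination -(α * c) * hθ]
    exact neg_ne_zero.2 (mul_ne_zero (fun e => by simp [e] at hα) c0))
  have e1 := mul_nonsing_inv P hd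
  have e2 := nonsing_inv_mul P hd
  let φ : SL(2, F) →* Cfsg.SU 2 K q := MonoidHom.mk' (fun g => ⟨⟨P * g.1.map (algebraMap F K) * P⁻¹, by
      rw [det_mul_comm, ← Matrix.mul_assoc, e2, Matrix.one_mul, ← RingHom.mapMatrix_apply, ← RingHom.map_det, g.2, map_one]⟩,
    (mem_SU hq).2 (by
      have k : ((g.1.map (algebraMap F K)).map σ)ᵀ * ((P.map σ)ᵀ * P) * g.1.map (algebraMap F K) = (P.map σ)ᵀ * P := by
        have d := congrArg (algebraMap F K) ((det_fin_two g.1).symm.trans g.2)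
        simp only [map_sub, map_mul, map_one] at d
        rw [hP]
        ext i j; fin_cases i <;> fin_cases j <;> simp [mul_apply, Fin.sum_univ_two, hσ']
        · ring
        · linear_combination c * d
        · linear_combination -c * d
        · ring
      calc _ = (P⁻¹.map σ)ᵀ * (((g.1.map (algebraMap F K)).map σ)ᵀ * ((P.map σ)ᵀ * P) * g.1.map (algebraMap F K)) * P⁻¹ := by
            simp only [Matrix.map_mul, transpose_mul, Matrix.mul_assoc]
        _ = ((P * P⁻¹).map σ)ᵀ * (P * P⁻¹) := by simp only [k, Matrix.map_mul, transpose_mul, Matrix.mul_assoc]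
        _ = 1 := by simp [e1])⟩) fun g h => Subtype.ext (Subtype.ext (by
      change P * (g.1 * h.1).map _ * P⁻¹ = P * g.1.map _ * P⁻¹ * (P * h.1.map _ * P⁻¹)
      simp only [Matrix.map_mul, Matrix.mul_assoc]
      rw [← Matrix.mul_assoc P⁻¹, e2, Matrix.one_mul]))
  refine ⟨(MulEquiv.ofBijective φ ((Nat.bijective_iff_injective_and_card φ).2 ⟨fun g h e => ?_, ?_⟩)).symm⟩
  · have : P⁻¹ * (P * g.1.map _ * P⁻¹) * P = P⁻¹ * (P * h.1.map _ * P⁻¹) * P := congr(P⁻¹ * $e.1.1 * P)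
    simp only [Matrix.mul_assoc, e2, Matrix.mul_one] at this
    simp only [← Matrix.mul_assoc, e2, Matrix.one_mul] at this
    exact Subtype.ext (Matrix.map_injective (algebraMap F K).injective this)
  · refine Nat.eq_of_mul_eq_mul_left (show 0 < q + 1 by omega) ?_
    rw [Cfsg.Agent.S0278.result hK 2 one_le_two, H10.card_SL2, hF]
    simp [Finset.prod_range_succ, sq_sub]
    ring

end Rows

end H19.Iso
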