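import Cfsg.Agent.H19.AmN
import Cfsg.Agent.H28.AmG
import Cfsg.Agent.H9.AmD

/-! The quaternion algebra `(-1,-1)` splits over `ℚ(√5, η)` for a root of unity `η` of prime order `≠ 2, 5` (`pL`). -/

set_option autoImplicit false

namespace H19.Am

theorem three {K : Type*} [Field K] [CharZero K] (s η : K) (hs : s * s = 5) (l : ℕ) (hl : l.Prime) (h2 : l ≠ 2)
    (h5 : l ≠ 5) (h1 : η ^ l = 1) (h0 : η ≠ 1) :
    (∃ w : K, w * w = -1) ∨ ∃ X Y B : K, ¬ (X = 0 ∧ Y = 0) ∧ X ^ 2 + Y ^ 2 + B ^ 2 = 0 := by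
  obtain ⟨p, hp, h3, h4, m, hm⟩ := H9.AmD.pD l hl h2 h5
  obtain ⟨A, B, hG⟩ := H28.AmG.pG p hp h3 η
  obtain ⟨u, v, c, d, n0, hN⟩ := pN p hp h4
  obtain ⟨k, hk⟩ := hl.odd_of_ne_two h2
  have e0 : η ≠ 0 := fun e => by rw [e, zero_pow hl.ne_zero] at h1; exact zero_ne_one h1
  have e1 : η ^ p * η = 1 := by rw [← pow_succ, hm, pow_mul, h1, one_pow]
  have e2 : (η ^ k) ^ 2 * η = 1 := by rw [← h1, hk]; ring
  have e3 : ∑ i ∈ Finset.range p, η ^ i = -(η ^ k) ^ 2 := by
    have := geom_sum_mul η p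
    refine mul_right_cancel₀ (mul_ne_zero (sub_ne_zero.2 h0) e0) ?_
    rw [← mul_assoc, this]
    linear_combination e1 + (η - 1) * e2
  have μ0 : η ^ k ≠ 0 := pow_ne_zero _ e0
  generalize η ^ k = μ at e2 e3 μ0
  rw [e3] at hG
  have n1 : ((c : K) ^ 2 + d ^ 2) ≠ 0 := by exact_mod_cast n0
  have hN' : (p : K) * (c ^ 2 + d ^ 2) = u ^ 2 + 5 * v ^ 2 := by exact_mod_cast hN
  have p0 : (p : K) ≠ 0 := by exact_mod_cast hp.ne_zero
  obtain ⟨a, b, hab⟩ : ∃ a b : K, a ^ 2 + b ^ 2 = p * (c ^ 2 + d ^ 2) ^ 2 :=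
    ⟨u * c + s * v * d, u * d - s * v * c, by
      linear_combination (-((c : K) ^ 2 + d ^ 2)) * hN' + (v ^ 2 * (c ^ 2 + d ^ 2)) * hs⟩
  have key : (a * A + b * (2 * μ)) ^ 2 + (a * (2 * μ) - b * A) ^ 2 =
      p * (c ^ 2 + d ^ 2) ^ 2 * (A ^ 2 + 4 * μ ^ 2) := by
    linear_combination (A ^ 2 + 4 * μ ^ 2) * hab
  by_cases z : a * A + b * (2 * μ) = 0 ∧ a * (2 * μ) - b * A = 0
  · left
    rw [z.1, z.2] at key
    have : A ^ 2 + 4 * μ ^ 2 = 0 := by
      refine (mul_eq_zero.1 (key.symm.trans (by ring))).resolve_left (mul_ne_zero p0 (pow_ne_zero _ n1))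
    refine ⟨A / (2 * μ), ?_⟩
    field_simp
    linear_combination this
  · exact Or.inr ⟨_, _, B * (c ^ 2 + d ^ 2), z, by
      linear_combination key - ((c : K) ^ 2 + d ^ 2) ^ 2 * hG⟩

theorem pL {D : Type*} [DivisionRing D] [CharZero D] (i j s η : D) (hi : i * i = -1) (hj : j * j = -1)
    (hij : i * j = -(j * i)) (hs : s * s = 5) (si : Commute s i) (sj : Commute s j) (ei : Commute η i)
    (ej : Commute η j) (se : Commute s η) (l : ℕ) (hl : l.Prime) (h2 : l ≠ 2) (h5 : l ≠ 5) (h1 : η ^ l = 1) :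
    η = 1 := by
  by_contra h0
  let T : Subfield D :=
    { Subring.centralizer ({i, j, s, η} : Set D) with inv_mem' := fun x hx => Set.inv_mem_centralizer₀ hx }
  have mT : ∀ x, x ∈ T ↔ i * x = x * i ∧ j * x = x * j ∧ s * x = x * s ∧ η * x = x * η := fun x => by
    change x ∈ Subring.centralizer ({i, j, s, η} : Set D) ↔ _
    simp [Subring.mem_centralizer_iff]
  let f : Subring.center T →+* D := T.subtype.comp (Subring.center T).subtype
  have fi : Function.Injective f := f.injective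
  haveI : CharZero (Subring.center T) := f.charZero
  have ci : ∀ x, i * f x = f x * i := fun x => ((mT _).1 x.1.2).1
  have cj : ∀ x, j * f x = f x * j := fun x => ((mT _).1 x.1.2).2.1
  let s' : Subring.center T := ⟨⟨s, (mT _).2 ⟨si.symm, sj.symm, rfl, se.symm⟩⟩,
    Subring.mem_center_iff.2 fun g => Subtype.ext ((mT _).1 g.2).2.2.1.symm⟩
  let η' : Subring.center T := ⟨⟨η, (mT _).2 ⟨ei.symm, ej.symm, se, rfl⟩⟩,
    Subring.mem_center_iff.2 fun g => Subtype.ext ((mT _).1 g.2).2.2.2.symm⟩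
  have i0 : i ≠ 0 := fun e => by rw [e] at hi; simp at hi
  have j0 : j ≠ 0 := fun e => by rw [e] at hj; simp at hj
  have two : ∀ x : D, x = -x → x = 0 := fun x e => by
    have : (2 : D) * x = 0 := by rw [two_mul]; nth_rw 1 [e]; simp
    exact (mul_eq_zero.1 this).resolve_left two_ne_zero
  rcases three s' η' (fi (by rw [map_mul, map_ofNat]; exact hs)) l hl h2 h5
    (fi (by rw [map_pow, map_one]; exact h1)) (fun e => h0 ((congrArg f e).trans f.map_one)) with
    ⟨w, hw⟩ | ⟨X, Y, B, n, e⟩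
  · have h3 : f w * f w = -1 := by rw [← map_mul, hw, map_neg, map_one]
    have h4 : (f w - i) * (f w + i) = 0 := by
      rw [sub_mul, mul_add, mul_add, h3, hi, ci]; abel
    have h6 : j * i = i * j := by
      rcases mul_eq_zero.1 h4 with k | k
      · rw [← sub_eq_zero.1 k]; exact cj w
      · have := cj w
        rw [eq_neg_of_add_eq_zero_left k, mul_neg, neg_mul, neg_inj] at this
        exact this
    exact mul_ne_zero i0 j0 (two _ (by nth_rw 2 [← h6]; exact hij))
  · have e' : f X * f X + f Y * f Y + f B * f B = 0 := by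
      have := congrArg f e
      simpa [sq] using this
    have cXY : f X * f Y = f Y * f X := by rw [← map_mul, ← map_mul, mul_comm]
    have cXB : f X * f B = f B * f X := by rw [← map_mul, ← map_mul, mul_comm]
    have cYB : f Y * f B = f B * f Y := by rw [← map_mul, ← map_mul, mul_comm]
    have a1 := ci X
    have a2 := ci Y
    have a3 := ci B
    have b1 := cj X
    have b2 := cj Y
    have b3 := cj B
    have nn : ¬ (f X = 0 ∧ f Y = 0) := fun k => n ⟨fi (by simpa using k.1), fi (by simpa using k.2)⟩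
    generalize f X = x at *
    generalize f Y = y at *
    generalize f B = b at *
    have ji : j * i = -(i * j) := by rw [hij, neg_neg]
    have r1 : ∀ t, i * (x * t) = x * (i * t) := fun t => by rw [← mul_assoc, a1, mul_assoc]
    have r2 : ∀ t, i * (y * t) = y * (i * t) := fun t => by rw [← mul_assoc, a2, mul_assoc]
    have r3 : ∀ t, i * (b * t) = b * (i * t) := fun t => by rw [← mul_assoc, a3, mul_assoc]
    have r4 : ∀ t, j * (x * t) = x * (j * t) := fun t => by rw [← mul_assoc, b1, mul_assoc]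
    have r5 : ∀ t, j * (y * t) = y * (j * t) := fun t => by rw [← mul_assoc, b2, mul_assoc]
    have r6 : ∀ t, j * (b * t) = b * (j * t) := fun t => by rw [← mul_assoc, b3, mul_assoc]
    have r7 : ∀ t, i * (i * t) = -t := fun t => by rw [← mul_assoc, hi, neg_one_mul]
    have r8 : ∀ t, j * (j * t) = -t := fun t => by rw [← mul_assoc, hj, neg_one_mul]
    have r9 : ∀ t, j * (i * t) = -(i * (j * t)) := fun t => by rw [← mul_assoc, ji, neg_mul, mul_assoc]
    have q1 : ∀ t, y * (x * t) = x * (y * t) := fun t => by rw [← mul_assoc, ← cXY, mul_assoc]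
    have q2 : ∀ t, b * (x * t) = x * (b * t) := fun t => by rw [← mul_assoc, ← cXB, mul_assoc]
    have q3 : ∀ t, b * (y * t) = y * (b * t) := fun t => by rw [← mul_assoc, ← cYB, mul_assoc]
    have h3 : (x * i + y * j + b * (i * j)) * (x * i + y * j + b * (i * j)) = -(x * x + y * y + b * b) := by
      simp only [add_mul, mul_add, mul_assoc, r1, r2, r3, r4, r5, r6, r7, r8, r9, q1, q2, q3, hi, hj, ji, mul_neg,
        neg_neg, mul_one, a1, a2, a3, b1, b2, b3]
      abel
    rw [e', neg_zero, mul_self_eq_zero] at h3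
    have h4 : i * (x * i + y * j + b * (i * j)) + (x * i + y * j + b * (i * j)) * i = -x + -x := by
      simp only [add_mul, mul_add, mul_assoc, r1, r2, r3, r4, r5, r6, r7, r8, r9, hi, hj, ji, mul_neg,
        neg_neg, mul_one]
      abel
    have h6 : j * (x * i + y * j + b * (i * j)) + (x * i + y * j + b * (i * j)) * j = -y + -y := by
      simp only [add_mul, mul_add, mul_assoc, r1, r2, r3, r4, r5, r6, r7, r8, r9, hi, hj, ji, mul_neg,
        neg_neg, mul_one]
      abel
    rw [h3, mul_zero, zero_mul, add_zero] at h4 h6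
    exact nn ⟨two _ (by rw [eq_neg_iff_add_eq_zero, ← neg_eq_zero, neg_add]; exact h4.symm),
      two _ (by rw [eq_neg_iff_add_eq_zero, ← neg_eq_zero, neg_add]; exact h6.symm)⟩

end H19.Am
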