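import Mathlib.Data.ZMod.Basic
import Mathlib.Data.Nat.Sqrt
import Mathlib.Data.Nat.Prime.Basic
import Mathlib.Combinatorics.Pigeonhole
import Mathlib.Tactic

/-! Thue's lemma for the form `x² + 5 y²` (`pN`). -/

set_option autoImplicit false

namespace H19.Am

theorem thue (p : ℕ) (hp : p.Prime) (r : ZMod p) : ∃ x y : ℤ, ¬ (x = 0 ∧ y = 0) ∧ x ^ 2 ≤ p ∧ y ^ 2 ≤ p ∧
    (x : ZMod p) = r * y := by
  haveI : NeZero p := ⟨hp.ne_zero⟩
  obtain ⟨s, hs⟩ : ∃ s, s = Nat.sqrt p := ⟨_, rfl⟩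
  have h1 : s * s ≤ p := hs ▸ Nat.sqrt_le p
  have h2 : p < (s + 1) * (s + 1) := hs ▸ Nat.lt_succ_sqrt p
  obtain ⟨a, ha, b, hb, ne, e⟩ := Finset.exists_ne_map_eq_of_card_lt_of_maps_to
    (s := Finset.range (s + 1) ×ˢ Finset.range (s + 1)) (t := (Finset.univ : Finset (ZMod p)))
    (by simpa [ZMod.card] using h2) (f := fun z => (z.1 : ZMod p) - r * z.2) fun _ _ => Finset.mem_univ _
  simp only [Finset.mem_product, Finset.mem_range] at ha hb
  have h3 : ((s : ℤ) * s) ≤ p := by exact_mod_cast h1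
  have k : ∀ u v : ℕ, u < s + 1 → v < s + 1 → ((u : ℤ) - v) ^ 2 ≤ p := fun u v hu hv => by
    have a1 : (u : ℤ) ≤ s := by exact_mod_cast Nat.lt_succ_iff.1 hu
    have a2 : (v : ℤ) ≤ s := by exact_mod_cast Nat.lt_succ_iff.1 hv
    have a3 : (0 : ℤ) ≤ u := by positivity
    have a4 : (0 : ℤ) ≤ v := by positivity
    nlinarith
  refine ⟨(a.1 : ℤ) - b.1, (a.2 : ℤ) - b.2, fun h => ne (Prod.ext ?_ ?_), k _ _ ha.1 hb.1, k _ _ ha.2 hb.2, ?_⟩
  · have := h.1; omega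
  · have := h.2; omega
  · push_cast
    linear_combination e

theorem pN (p : ℕ) (hp : p.Prime) (h : IsSquare (-5 : ZMod p)) :
    ∃ u v c d : ℤ, c ^ 2 + d ^ 2 ≠ 0 ∧ (p:ℤ) * (c ^ 2 + d ^ 2) = u ^ 2 + 5 * v ^ 2 := by
  obtain ⟨r, hr⟩ := h
  obtain ⟨x, y, h0, h1, h2, h3⟩ := thue p hp r
  have h4 : (p : ℤ) ∣ x ^ 2 + 5 * y ^ 2 := (ZMod.intCast_zmod_eq_zero_iff_dvd _ _).1 (by
    push_cast
    rw [h3]
    linear_combination (-(y : ZMod p) ^ 2) * hr)
  obtain ⟨m, hm⟩ := h4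
  have p0 : (0 : ℤ) < p := by exact_mod_cast hp.pos
  have h5 : 0 < x ^ 2 + 5 * y ^ 2 := by
    rcases not_and_or.1 h0 with k | k
    · have := sq_pos_of_ne_zero k
      positivity
    · have := sq_pos_of_ne_zero k
      positivity
  have m1 : 0 < m := by
    by_contra k
    nlinarith
  have m2 : m ≤ 6 := by
    by_contra k
    nlinarith
  interval_cases m
  · exact ⟨x, y, 1, 0, by norm_num, by linear_combination -hm⟩
  · exact ⟨x, y, 1, 1, by norm_num, by linear_combination -hm⟩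
  · exact ⟨x - 5 * y, x + y, 3, 3, by norm_num, by linear_combination (-6) * hm⟩
  · exact ⟨x, y, 2, 0, by norm_num, by linear_combination -hm⟩
  · exact ⟨x, y, 2, 1, by norm_num, by linear_combination -hm⟩
  · exact ⟨x - 5 * y, x + y, 6, 0, by norm_num, by linear_combination (-6) * hm⟩

end H19.Am
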