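import Cfsg.Agent.H2.Gd1

/-! Solvable groups with four character degrees: the piece `pF` (two `p'`-degrees), with `inertia_le_det` and
`hom_pow_pGen`. -/

set_option autoImplicit false

namespace H19.Gd

open Subgroup Cfsg H18 H5 H6 H8 H2.Gd
open scoped commutatorElement

universe u

theorem inertia_le_det {G : Type*} [Group G] [Finite G] {L : Subgroup G} [hL : L.Normal] {ψ : L → ℂ}
    (hψ : IsCharacter L ψ) : inertia ψ ≤ inertia fun y => (detHom ψ y : ℂ) := fun g hg => by
  refine mem_inertia'.2 fun n => ?_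
  have h1 := detChar_comp (MulAut.conjNormal g : MulAut L).toMonoidHom hψ
  have h2 : (fun x => ψ ((MulAut.conjNormal g : MulAut L).toMonoidHom x)) = ψ :=
    funext fun x => mem_inertia'.1 hg x
  rw [h2] at h1
  simp only [coe_detHom]
  exact (congrFun h1 n).symm

theorem hom_pow_pGen {G : Type*} [Group G] [Finite G] {p : ℕ} (hp : p.Prime) (lam : pGen p G →* ℂˣ)
    (y : pGen p G) : lam y ^ p ^ Nat.card G = 1 := by
  obtain ⟨y, hy⟩ := y
  induction hy using closure_induction with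
  | mem x hx =>
    obtain ⟨k, hk⟩ := hx
    have h1 : p ^ k ≤ Nat.card G := Nat.le_of_dvd Nat.card_pos (hk ▸ orderOf_dvd_natCard x)
    have h2 : k < p ^ k := Nat.lt_pow_self hp.one_lt
    rw [← map_pow]
    have : (⟨x, subset_closure ⟨k, hk⟩⟩ : pGen p G) ^ p ^ Nat.card G = 1 :=
      Subtype.ext (orderOf_dvd_iff_pow_eq_one.1 (hk ▸ pow_dvd_pow p (by omega)))
    rw [this, map_one]
  | one => exact (congrArg (· ^ _) lam.map_one).trans (one_pow _)
  | mul x y hx hy h1 h2 =>
    have := lam.map_mul ⟨x, hx⟩ ⟨y, hy⟩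
    exact (congrArg (· ^ _) this).trans (by simp only [mul_pow]; rw [h1, h2, mul_one])
  | inv x hx h1 =>
    have := lam.map_inv ⟨x, hx⟩
    exact (congrArg (· ^ _) this).trans (by simp only [inv_pow]; rw [h1, inv_one])

theorem one_of_cop {z : ℂˣ} {m n : ℕ} (h : m.Coprime n) (h1 : z ^ m = 1) (h2 : z ^ n = 1) : z = 1 := by
  have := Nat.dvd_gcd (orderOf_dvd_of_pow_eq_one h1) (orderOf_dvd_of_pow_eq_one h2)
  rw [h, Nat.dvd_one] at this
  exact orderOf_eq_one_iff.1 this

theorem pF (hE : Ext.{u}) : PF.{u} := by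
  intro N _ _ _ p b hp hN h θ hθ hd
  classical
  haveI := Fact.mk hp
  haveI := Fintype.ofFinite N
  haveI := Fintype.ofFinite (pGen p N)
  have iL : ¬ p ∣ (pGen p N).index := not_dvd_index_pGen
  refine (der2_mod (K := ⁅pGen p N, pGen p N⁆) (a := b) fun χ h1 h2 =>
    h χ h1 fun k => iL (k.trans (deg_dvd_index_of_comm h1 _ h2))).trans ?_
  by_cases L0 : pGen p N = ⊥
  · rw [L0]; simp
  obtain ⟨φ, hφ, hi⟩ := H6.exists_irr_under (N := pGen p N) hθ
  have dφ : ¬ p ∣ charDegree φ := fun k =>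
    hd (k.trans ((dvd_mul_left _ _).trans (index_inertia_mul_dvd hθ hφ hi)))
  have cop : ∀ m, ¬ p ∣ m → (p ^ Nat.card N).Coprime m := fun m hm =>
    Nat.Coprime.pow_left _ ((Nat.Prime.coprime_iff_not_dvd hp).2 hm)
  suffices charDegree φ = 1 by
    refine le_ker_of_constituent (commutator_le_left _ _) hθ hφ.isCharacter hi ?_
    rw [← map_subtype_commutator, subgroupOf, comap_map_eq_self_of_injective (pGen p N).subtype_injective]
    by_contra k
    exact (not_le_ker_iff hφ).1 k this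
  obtain ⟨lam, hl⟩ : ∃ lam : pGen p N →* ℂˣ, ∃ g, detHom (φ * fun g => (lam g : ℂ)) g ≠ 1 := by
    by_cases k : ∃ g, detHom φ g ≠ 1
    · obtain ⟨g, hg⟩ := k
      refine ⟨1, g, ?_⟩
      have : (φ * fun g => (((1 : pGen p N →* ℂˣ) g : ℂˣ) : ℂ)) = φ := by funext x; simp
      rwa [this]
    push Not at k
    haveI : Nontrivial (pGen p N) := (nontrivial_iff_ne_bot _).2 L0
    have h1 : commutator (pGen p N) ≠ ⊤ := (IsSolvable.commutator_lt_top_of_nontrivial _).ne
    obtain ⟨g, hg⟩ : ∃ g, g ∉ commutator (pGen p N) := by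
      by_contra k'
      push Not at k'
      exact h1 (eq_top_iff.2 fun x _ => k' x)
    obtain ⟨lam, -, h2⟩ := exists_lin_ne_one le_rfl hg
    refine ⟨lam, g, fun e => h2 (one_of_cop (cop _ dφ) (hom_pow_pGen hp lam g) ?_)⟩
    have h3 := detChar_hom_mul lam hφ.isCharacter hφ.coe_charDegree.symm g
    rw [mul_comm, ← coe_detHom, ← coe_detHom, e, k, Units.val_one, mul_one] at h3
    exact Units.ext (by simpa using h3.symm)
  obtain ⟨g, hg⟩ := hl
  have hψ := hφ.mul_hom lam
  have dψ : charDegree (φ * fun g => (lam g : ℂ)) = charDegree φ := charDegree_mul_hom lam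
  generalize (φ * fun g => (lam g : ℂ)) = ψ at hψ dψ hg
  obtain ⟨χ, c1, c2, c3⟩ := hE N (pGen p N) (detHom ψ) _ (cop _ iL) (hom_pow_pGen hp _)
  have c4 : ¬ p ∣ charDegree χ := fun k => iL (k.trans (c3 ▸ index_dvd_of_le
    (le_inertia (isIrrCharacter_hom (detHom ψ)).isClassFunction)))
  have c5 : charDegree χ = b := (h χ c1 c4).resolve_left fun k => by
    obtain ⟨μ, rfl⟩ := c1.isCharacter.exists_hom_of_apply_one (c1.isCharacter.charDegree_eq_one_iff.1 k)
    have h1 := (isIrrCharacter_hom (μ.comp (pGen p N).subtype)).eq_of_classInner_ne_zero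
      (isIrrCharacter_hom (detHom ψ)) c2
    have h2 : μ g = detHom ψ g := Units.ext (congrFun h1 g)
    refine hg (one_of_cop (cop _ hN) (hom_pow_pGen hp _ g) ?_)
    rw [← h2, ← map_pow]
    exact MonoidHom.mem_ker.1 (Abelianization.commutator_subset_ker μ (pow_index_mem _ _))
  obtain ⟨η, e1, e2⟩ := H6.exists_irr_over hψ
  obtain ⟨c, e3, e4⟩ := deg_dvd_of_under e1 hψ e2
  have e5 : ¬ p ∣ charDegree η := fun k => by
    rw [e4, dψ] at k
    exact (hp.dvd_mul.1 k).elim (fun k => iL (k.trans e3)) dφ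
  have e6 : b * charDegree φ ∣ charDegree η := by
    refine Dvd.dvd.trans ?_ (index_inertia_mul_dvd e1 hψ e2)
    rw [dψ, ← c5, c3]
    exact mul_dvd_mul_right (index_dvd_of_le (inertia_le_det hψ.isCharacter)) _
  have b0 : 0 < b := c5 ▸ c1.charDegree_pos
  rcases h η e1 e5 with k | k <;> rw [k] at e6
  · exact Nat.eq_one_of_mul_eq_one_left (Nat.dvd_one.1 e6)
  · exact Nat.dvd_one.1 (Nat.dvd_of_mul_dvd_mul_left b0 (by rwa [mul_one]))

end H19.Gd
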