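import Cfsg.Agent.H19.MXD
import Cfsg.Agent.H3.R2c
import Cfsg.Agent.H3.Br
import Cfsg.Agent.H3.HallTransfer

/-! Odd `p`-groups `P` of rank at most two with a `p'`-group `A` of operators fixing a central element of order
`p` and without fixed points on `P / P'` (`H19.Iso.Cf`): `P` is not metacyclic (`Cf.not_meta`), `P = W` in
Blackburn's families (`Cf.rk2`), odd `n` for `3`-groups of maximal class (`Cf.odd`); the classification `cls` and
`gam_three_le` (`γ₃(P) ≤ Φ(M)` for maximal `M`). -/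

set_option autoImplicit false

namespace H19.Iso

open Subgroup Cfsg H18 H3 H19.MXD
open scoped commutatorElement

variable {G : Type*} [Group G] [Finite G] {p n j : ℕ} {P A D M N W Y X : Subgroup G} {w b : G}

theorem mem_der_of_cent (hP : Hall {p} P N) (hb : b ∈ P) (h1 : b ∈ C(N)) (h2 : b ∈ ⁅N, N⁆) : b ∈ ⁅P, P⁆ := by
  rw [← map_subtype_commutator] at h2
  obtain ⟨c, hc, rfl⟩ := h2
  have := hall_inf_center_inf_commutator_le (H := P.subgroupOf N) (by rw [card_subgroupOf hP.le]; exact hP.coprime)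
    (x := c) ⟨⟨hb, mem_center_iff.2 fun g => Subtype.ext (mem_C.1 h1 g g.2)⟩, hc⟩
  rw [← map_subgroupOf_eq_of_le hP.le, ← map_commutator]
  exact ⟨c, this, rfl⟩

theorem mem_of_cent_mod (hP : Hall {p} P N) (h1 : P ≤ ⁅N, N⁆) (hD : N ≤ N(D)) (h2 : ⁅P, P⁆ ≤ D) (hb : b ∈ P)
    (h3 : ∀ g ∈ N, ⁅b, g⁆ ∈ D) : b ∈ D := by
  have l := hP.le.trans hD
  have := mem_der_of_cent (hP.mim (f := coset D) hD) (mfun_mem_mim hb) (mem_C.2 fun y hy => by
    obtain ⟨g, hg, rfl⟩ := (mem_quo hD).1 hy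
    have := cs_eq_one (h3 g hg)
    rw [mfun_comm (l hb) (hD hg), commutatorElement_eq_one_iff_mul_comm] at this
    exact this.symm) (by rw [← mim_comm hD hD]; exact mfun_mem_mim (h1 hb))
  rw [((abel_quo_iff l).2 h2).der, mem_bot] at this
  exact (cs_eq_one_iff (l hb)).1 this

/-- the local configuration -/
structure Cf (p : ℕ) (P A : Subgroup G) (w : G) : Prop where
  prime : p.Prime
  odd : p ≠ 2
  pi : PiGrp {p} P
  rk : prank p P ≤ 2
  piA : PiGrp {p}ᶜ A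
  norm : A ≤ N(P)
  tr : ∀ D ≤ P, A ≤ N(D) → ⁅P, P⁆ ≤ D → ∀ b ∈ P, (∀ a ∈ A, ⁅b, a⁆ ∈ D) → b ∈ D
  mem : w ∈ P
  pow : w ^ p = 1
  ne : w ≠ 1
  cP : w ∈ C(P)
  cA : w ∈ C(A)

namespace Cf

variable (h : Cf p P A w)
include h

theorem cyc_cent (hY : Y ≤ P) (hc : Cyc Y) (hn : A ≤ N(Y)) (hw : w ∈ Y) : A ≤ C(Y) := by
  refine (hc.comm_eq_bot_or h.prime (h.pi.of_le hY) hn h.piA).resolve_right fun e => h.ne ?_
  have := hc.abel.comm
  exact mem_bot.1 (fitting_inf_eq_bot hn ((h.pi.of_le hY).coprime h.piA.relIndex) ▸ ⟨e.symm ▸ hw, h.cA⟩)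

theorem not_meta : ¬ Metacyc P := fun m => by
  have k : P ≤ ⁅P, A⁆ ⊔ ⁅P, P⁆ := fun b hb => h.tr _ (sup_le (comm_le_left h.norm) der_le)
    (norm_sup norm_comm_right (norm_comm h.norm h.norm)) le_sup_right b hb
      fun a ha => mem_sup_left (commutator_mem_commutator hb ha)
  have e := phi_nongen (comm_le_left h.norm) (k.trans (sup_le_sup_left (h.pi.der_le_phi h.prime) _))
  have a := (coprime_metacyclic_cent_sdprod h.prime h.pi (odd_of_piGrp h.prime h.odd h.pi) h.piA h.norm m).1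
  rw [e] at a
  exact h.ne (mem_bot.1 (h.tr ⊥ bot_le (by simp) a.der.le w h.mem fun a ha =>
    mem_bot.2 (commutatorElement_eq_one_iff_mul_comm.2 (mem_C.1 h.cA a ha).symm)))

theorem rk2 (r : Rk2 p P W) : W = P := by
  have hp := h.prime
  by_cases hn : ⁅W, P⁆ ≤ ⁅W, W⁆
  · have e := r.sup_eq hn
    have e1 : P ⊓ C(W) ≤ C(P) := by
      nth_rw 2 [← e]; exact cent_sup inf_le_right r.cycC.abel
    have e2 : P ⊓ C(W) = Z(P) := le_antisymm (le_inf inf_le_left e1) (inf_le_inf_left _ (C_anti r.nml.le))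
    have k := h.cyc_cent inf_le_left (e2 ▸ r.cycC) (norm_Z h.norm) ⟨h.mem, h.cP⟩
    have k1 : ⁅P, P⁆ ≤ W := by
      nth_rw 1 [← e]
      exact comm_sup_le (comm_le_left r.nml.norm) ((comm_eq_bot_iff.2 e1).le.trans bot_le) le_N
        (inf_le_left.trans r.nml.norm)
    rw [← e, eq_comm, sup_eq_left, e2]
    refine fun b hb => k1 (h.tr _ der_le (norm_comm h.norm h.norm) le_rfl b hb.1 fun a ha => ?_)
    rw [commutatorElement_eq_one_iff_mul_comm.2 (mem_C.1 (k ha) b hb)]; exact one_mem _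
  exfalso
  obtain ⟨c, hc, e1, e2⟩ := r.exists_c hn
  obtain ⟨k, o, -, e3⟩ := r.exists_ord hn hc e2
  have nV := r.nV.norm
  have z1 : zpowers c ≤ P := zpowers_le.2 hc.1
  have e4 : ⁅P, P⁆ = ⁅W, P⁆ := by
    refine le_antisymm ?_ (comm_mono r.nml.le le_rfl)
    nth_rw 1 [← e2]
    refine comm_sup_le le_rfl ?_ (r.nml.le.trans nV) (z1.trans nV)
    nth_rw 1 [← e2]
    exact comm_sup_le' (comm_comm.le.trans (comm_mono le_rfl z1)) (abel_zpowers.der.le.trans bot_le)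
      (r.nml.le.trans nV) (z1.trans nV)
  have n1 : A ≤ N(⁅W, P⁆) := e4 ▸ norm_comm h.norm h.norm
  have n2 : A ≤ N(P ⊓ C(⁅W, P⁆)) := norm_inf h.norm (norm_C n1)
  have ab : Abel (P ⊓ C(⁅W, P⁆)) := e1 ▸ abel_sup_zpowers r.abelV hc.2
  have n3 : A ≤ N(zpowers (c ^ p)) := norm_iff.2 (by
    rintro a ha _ ⟨m, rfl⟩
    obtain ⟨j, v, hv, ej⟩ := mem_zpowers_sup (C_le_N hc.2) (e1.ge (conj_mem n2 ha hc))
    beta_reduce
    rw [← conj_zpow, ← conj_pow, ej, (show Commute (c ^ j) v from (pow_mem hc.2 j v hv).symm).mul_pow,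
      r.ex v (r.V_le hv), mul_one, ← pow_mul, mul_comm, pow_mul]
    exact zpow_mem (pow_mem (mem_zpowers _) _) _)
  have k1 := h.cyc_cent (zpowers_le.2 (pow_mem hc.1 p)) cyc_zpowers n3 (by
    refine zpowers_le.2 ?_ (e3.ge (r.mem_Z h.mem (C_anti r.nml.le h.cP) h.pow))
    rw [pow_succ', pow_mul]; exact pow_mem (mem_zpowers _) _)
  have k2 := h.tr _ r.nV.le n1 e4.le c hc.1 fun a ha => by
    have u := conj_mem n2 ha hc
    have u1 := mul_mem hc (inv_mem u)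
    have : ⁅c, a⁆ = c * (a * c * a⁻¹)⁻¹ := by simp [commutatorElement_def, mul_assoc]
    rw [this]
    refine mem_of_rank2 hp h.rk (r.pV hn) u1.1 u1.2 ?_
    rw [(show Commute c (a * c * a⁻¹)⁻¹ from comm_of_cent ab hc (inv_mem u)).mul_pow, inv_pow, conj_pow,
      ← mem_C.1 (k1 ha) _ (mem_zpowers _), mul_inv_cancel_right, mul_inv_cancel]
  have := orderOf_dvd_of_pow_eq_one (r.ex c (r.V_le k2))
  rw [o, ← pow_one p, ← pow_mul, Nat.pow_dvd_pow_iff_le_right hp.one_lt] at this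
  omega

end Cf

omit [Finite G] in
theorem comm_calc {y s t t' : G} (e l : ℕ) (h1 : Commute t (s ^ l * t')) (h2 : Commute y t')
    (h3 : Commute y ⁅y, s⁆) (h4 : Commute s ⁅y, s⁆) : ⁅y ^ e * t, s ^ l * t'⁆ = ⁅y, s⁆ ^ (l * e) := by
  rw [comm_mul_left'', commutatorElement_eq_one_iff_commute.2 h1, comm_mul_right',
    commutatorElement_eq_one_iff_commute.2 (h2.pow_left e), comm_pow_left (by
      rw [comm_pow_right h4]; exact h3.pow_right l), comm_pow_right h4, pow_mul]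
  simp

omit [Finite G] in
theorem norm_tsc : N(P) ≤ N(tsc P j) := norm_iff.2 fun g hg x hx => ⟨conj_mem_N hg hx.1, fun y hy => by
  have k : ∀ i, g ∈ N(gam P i) := fun i => norm_lcs (K := N(P)) le_rfl _ hg
  simpa [commutatorElement_def, mul_assoc] using conj_mem_N (k _) (hx.2 _ (conj_mem_N' (k j) hy))⟩

theorem mem_gam_of_cent (m : MX p n P) (hb : b ∈ P) (hc : b ∈ C(P)) : b ∈ gam P (n - 1) := by
  have n3 := m.three
  obtain ⟨s, hs⟩ := m.exists_unif
  have k : ∀ y ∈ P, ⁅y, b⁆ = 1 := fun y hy => commutatorElement_eq_one_iff_mul_comm.2 (mem_C.1 hc y hy)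
  refine Un.mem_gam m hs le_rfl (by omega) (m.tsc_one ⟨hb, fun y hy => ?_⟩) ?_
  · rw [k y hy]; exact one_mem _
  · rw [← commutatorElement_inv, k s hs.1]; simp

theorem Cf.odd' (h : Cf 3 P A w) (m : MX 3 n P) (hn : 4 ≤ n) : Odd n := by
  by_contra ev
  obtain ⟨r, hr⟩ : ∃ r, n - 2 = 2 * r := ⟨(n - 2) / 2, by have := Nat.not_odd_iff_even.1 ev; grind⟩
  obtain ⟨s, hs, hu⟩ := m.exists_unif
  have hs2 : s ∉ tsc P 2 := hu 2 (by omega) (by omega)
  obtain ⟨y, y1, y2⟩ : ∃ y ∈ tsc P 2, y ∉ gam P 2 := SetLike.not_le_iff_exists.1 fun e => by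
    have a := relIndex_dvd_left (H := P) e
    rw [m.tsc_idx le_rfl hn, gam_two, m.relIndex_der] at a
    omega
  have p2 : ∀ g ∈ P, g ^ 3 ∈ gam P 2 := fun g hg => by rw [gam_two, ← m.phi_eq]; exact m.pi.pow_mem_phi m.prime hg
  have n0 : ∀ i, P ≤ N(gam P i) := fun i => (gam_nml i).norm
  let Y : ℕ → G := fun j => (fun u => ⁅u, s⁆)^[j] y
  have Ys : ∀ j, Y (j + 1) = ⁅Y j, s⁆ := fun j => Function.iterate_succ_apply' _ _ _
  have Y1 : ∀ j, Y j ∈ gam P (j + 1) := fun j => by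
    induction j with
    | zero => exact y1.1
    | succ j ih => rw [Ys]; exact comm_mem_gam (j := 1) ih hs
  have Y2 : ∀ j, j + 2 ≤ n → Y j ∉ gam P (j + 2) := fun j => by
    induction j with
    | zero => exact fun _ => y2
    | succ j ih =>
      intro e k
      rw [Ys] at k
      rcases j with _ | j
      · exact m.dl_not_mem hn hs hs2 (inv_mem y1) (mt inv_mem_iff.1 y2) (by rwa [dl_eq, inv_inv])
      · exact ih (by omega) (m.un (by omega) hs (hu _ (by omega) (by omega)) (Y1 _) k)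
  have Y3 : ∀ j, ∀ t ∈ tsc P 2, ⁅Y j, t⁆ ∈ gam P (j + 3) := fun j t ht => by
    rcases j with _ | j
    · exact gam_anti (by omega) (m.der_tsc hn (commutator_mem_commutator y1 ht))
    · exact m.comm_tsc_gam m.ne_three (by omega) (commutator_mem_commutator (Y1 _) ht)
  refine y2 (h.tr _ (gam_le _) (norm_lcs h.norm _) le_rfl y y1.1 fun a ha => ?_)
  have a1 := h.norm ha
  obtain ⟨l, t', ht', e1⟩ := mem_zpowers_sup (MX.tsc_nml.norm hs) ((sup_zpowers_eq_of_prime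
    ((m.tsc_idx le_rfl hn).symm ▸ m.prime) tsc_le hs hs2).ge (conj_mem_N a1 hs))
  obtain ⟨e, t, ht, e2⟩ := mem_zpowers_sup (n0 2 y1.1) ((m.exists_tsc hn y1 y2).ge (conj_mem_N (norm_tsc a1) y1))
  have l3 : ¬ 3 ∣ l := fun ⟨k, hk⟩ => hs2 (by
    have : a * s * a⁻¹ ∈ tsc P 2 := by
      rw [e1, hk, pow_mul]; exact mul_mem (gam_le_tsc (pow_mem (p2 s hs) k)) ht'
    simpa [mul_assoc] using conj_mem_N' (norm_tsc a1) this)
  have key : ∀ j, ∃ t ∈ gam P (j + 2), a * Y j * a⁻¹ = Y j ^ (l ^ j * e) * t := fun j => by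
    induction j with
    | zero => exact ⟨t, ht, by rw [pow_zero, one_mul]; exact e2⟩
    | succ j ih =>
      obtain ⟨t, ht, e3⟩ := ih
      have m1 := n0 (j + 3) (gam_le _ (Y1 j))
      have m2 := n0 (j + 3) hs
      have m3 := n0 (j + 3) (gam_le _ ht)
      have m4 := n0 (j + 3) ht'.1
      have m5 := Ys j ▸ Y1 (j + 1)
      have m6 := n0 (j + 3) (gam_le _ m5)
      have c : ∀ {u v : G}, u ∈ P → v ∈ P → ⁅u, v⁆ ∈ gam P (j + 3) →
          Commute (cs (gam P (j + 3)) u) (cs (gam P (j + 3)) v) := fun hu hv e => by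
        rw [← commutatorElement_eq_one_iff_commute, ← mfun_comm (n0 _ hu) (n0 _ hv)]; exact cs_eq_one e
      refine ⟨(Y (j + 1) ^ (l ^ (j + 1) * e))⁻¹ * (a * Y (j + 1) * a⁻¹), ?_, by simp⟩
      have q1 : s ^ l * t' ∈ P := mul_mem (pow_mem hs l) ht'.1
      have q2 := gam_le _ (Y1 j)
      have q3 := gam_le _ m5
      rw [Ys, conjugate_commutatorElement, e3, e1, ← cs_eq_iff (pow_mem m6 _) (n0 _ (der_le (commutator_mem_commutator
        (mul_mem (pow_mem q2 _) (gam_le _ ht)) q1))), mfun_pow m6, mfun_comm (mul_mem (pow_mem m1 _) m3) (n0 _ q1),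
        mfun_comm m1 m2, mfun_mul (pow_mem m1 _) m3, mfun_mul (pow_mem m2 _) m4, mfun_pow m1, mfun_pow m2, comm_calc,
        ← mul_assoc, ← pow_succ']
      · rw [← mfun_pow m2, ← mfun_mul (pow_mem m2 _) m4]
        exact c (gam_le _ ht) q1 (comm_mem_gam (j := 1) ht q1)
      · exact c q2 ht'.1 (Y3 j _ ht')
      · rw [← mfun_comm m1 m2]; exact (c q3 q2 (comm_mem_gam (j := 1) m5 q2)).symm
      · rw [← mfun_comm m1 m2]; exact (c q3 hs (comm_mem_gam (j := 1) m5 hs)).symm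
  obtain ⟨t1, ht1, e3⟩ := key (n - 2)
  rw [m.gam_eq_bot (by omega), mem_bot] at ht1
  have c3 : Nat.card (gam P (n - 1)) = 3 := m.card_gam (j := 1) (by omega) (by omega)
  have y4 : Y (n - 2) ∈ gam P (n - 1) := by have := Y1 (n - 2); rwa [show n - 2 + 1 = n - 1 by omega] at this
  have y5 : Y (n - 2) ≠ 1 := fun e => Y2 (n - 2) (by omega) (e ▸ one_mem _)
  have y6 : Y (n - 2) ∈ C1(a) := zpowers_le.2 (le_C1_iff.1 (zpowers_le.2 (mem_C1.2 (mem_C.1 h.cA a ha))) |> fun k =>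
    mem_C1.2 (mem_C.1 k a (mem_zpowers a)).symm) ((zpowers_eq_of_prime (c3 ▸ m.prime)
      (mem_gam_of_cent m h.mem h.cP) h.ne).ge y4)
  rw [← mem_C1.1 y6, mul_inv_cancel_right, ht1, mul_one] at e3
  have o : orderOf (Y (n - 2)) = 3 := by
    rw [← Nat.card_zpowers, zpowers_eq_of_prime (c3 ▸ m.prime) y4 y5, c3]
  have e4 : 1 ≡ l ^ (n - 2) * e [MOD 3] := by rw [← o, ← pow_eq_pow_iff_modEq, pow_one]; exact e3
  have e5 : l ^ 2 ≡ 1 [MOD 3] := by
    have : l % 3 = 1 ∨ l % 3 = 2 := by omega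
    rcases this with k | k <;> simp [Nat.ModEq, Nat.pow_mod, k]
  have e6 : 1 ≡ e [MOD 3] := by
    have := (e5.pow r).mul_right e
    rw [← pow_mul, ← hr, one_pow, one_mul] at this
    exact e4.trans this
  obtain ⟨k, rfl⟩ : ∃ k, e = 3 * k + 1 := ⟨e / 3, by unfold Nat.ModEq at e6; omega⟩
  have : ⁅y, a⁆ = y * t⁻¹ * y⁻¹ * ((y ^ 3) ^ k)⁻¹ := by
    rw [show ⁅y, a⁆ = y * (a * y * a⁻¹)⁻¹ by simp [commutatorElement_def, mul_assoc], e2, pow_succ, pow_mul]
    group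
  rw [this]
  exact mul_mem (conj_mem (n0 2) y1.1 (inv_mem ht)) (inv_mem (pow_mem (p2 y y1.1) k))

theorem gam_le_of_d2 (hP : PiGrp {p} P) (hp : p.Prime) (hM : M ⊴ P) (hi : M.relIndex P = p)
    (h : Φ(M).relIndex M ≤ p ^ 2) : gam P 3 ≤ Φ(M) := by
  obtain ⟨t, ht, -, e⟩ := exists_sup_zpowers_of_prime (hi ▸ hp) hM.le
  have n1 : P ≤ N(⁅M, P⁆) := norm_comm hM.norm le_N
  have z1 : zpowers t ≤ P := zpowers_le.2 ht
  have k : ⁅P, P⁆ ≤ ⁅M, P⁆ := by
    nth_rw 1 [← e]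
    refine comm_sup_le le_rfl ?_ (hM.le.trans n1) (z1.trans n1)
    nth_rw 1 [← e]
    exact comm_sup_le' (comm_comm.le.trans (comm_mono le_rfl z1)) (abel_zpowers.der.le.trans bot_le)
      (hM.le.trans n1) (z1.trans n1)
  by_cases e1 : M = ⊥
  · rw [e1, commutator_bot_left, le_bot_iff] at k
    rw [gam_three, k, commutator_bot_left]; exact bot_le
  have n2 := (H3.phi_nml hM).norm
  have l : ⁅M, P⁆ ⊔ Φ(M) < M := lt_of_le_of_ne (sup_le (comm_le_left hM.norm) H18.phi_le) fun e =>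
    (hP.nil.comm_lt hM.le le_rfl hM.norm e1).ne (phi_nongen (comm_le_left hM.norm) e.ge)
  have a := card_mul_le_of_lt (hP.of_le hM.le) l
  rw [← card_mul_relIndex (H18.phi_le (H := M))] at a
  exact (comm_mono (k.trans le_sup_left) le_rfl).trans (comm_le_of_card_mul hP n2 ⟨l.le.trans hM.le, norm_sup n1 n2⟩
    le_sup_right (Nat.le_of_mul_le_mul_right (a.trans (by rw [mul_assoc, ← sq]; exact Nat.mul_le_mul_left _ h)) hp.pos))

theorem gam_le_of_min (hP : PiGrp {p} P) (hp : p.Prime) (hr : prank p P ≤ 2) (hM : M ⊴ P) (hi : M.relIndex P = p)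
    (h1 : gam P 3 ≤ Y) (h2 : Nat.card Y = p) (h3 : ∀ z ∈ P, z ∈ C(P) → z ^ p = 1 → z ∈ Y) : gam P 3 ≤ Φ(M) := by
  by_cases e : Φ(M) = ⊥
  · refine gam_le_of_d2 hP hp hM hi ?_
    rw [e, relIndex_bot_left]
    exact card_le_of_prank_le hp hr ((H3.phi_eq_bot_iff hp (hP.of_le hM.le)).1 e) hM.le
  obtain ⟨X, hX, c⟩ := (hP.of_le (inf_le_right.trans inf_le_left)).exists_sub_card
    (hP.nil.meet_Z (H3.phi_nml hM) e)
  rw [← eq_of_card_eq (A := X) (fun z hz => h3 z (hX hz).2.1 (hX hz).2.2 (c ▸ pow_card_eq_one_of_mem hz))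
    (c.trans h2.symm)] at h1
  exact h1.trans (hX.trans inf_le_left)

/-- Blackburn's trichotomy -/
def Cls (p : ℕ) (P : Subgroup G) : Prop :=
  Metacyc P ∨ (∃ W, Rk2 p P W) ∨ (p = 3 ∧ ∃ n, 4 ≤ n ∧ MX 3 n P ∧ Group.nilpotencyClass P = n - 1)

theorem cls (hp : p.Prime) (h2 : p ≠ 2) (hP : PiGrp {p} P) (hr : prank p P ≤ 2) : Cls p P := by
  have := Fact.mk hp
  refine or_iff_not_imp_left.2 fun hm => ?_
  by_cases h3 : p = 3
  swap
  · have h4 : 3 < p := lt_of_le_of_ne (three_le hp h2) (Ne.symm h3)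
    exact Or.inl ⟨_, r2_ohm hp h4 hP hr fun e => hm (p2_ohm_metacyc hp hP h4 e)⟩
  obtain ⟨n, hn⟩ := hP.card_eq_pow
  have c : Nat.card (⊤ : Subgroup P) = p ^ n := card_top.trans hn
  rcases exists_rk2_or hp h2 (piGrp_of_card_pow hp c) ((H3.prank_top_le_iff hp).2 ((prank_le_iff_PRankLE hp).1 hr))
    (fun e => hm (metacyc_iff.2 (metacyc_top_iff.1 e))) with ⟨W, r⟩ | ⟨h1, s, h4⟩
  · have := r.nml.normal
    exact Or.inl ⟨W.map P.subtype, hp, h2, hP, hr, nml_map_subtype, by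
      rintro _ ⟨x, hx, rfl⟩; exact congrArg Subtype.val (r.ex x hx), card_map_subtype.trans r.card⟩
  rw [c, Nat.pow_le_pow_iff_right hp.one_lt] at h1
  rw [top_inf_eq] at h4
  have k := class_of_cent hn h4
  rcases h1.eq_or_lt with rfl | h1
  · refine Or.inl ⟨P, hp, h2, hP, hr, .rfl, fun x hx => by_contra fun e => hm ?_, hn⟩
    have l : zpowers x ≤ P := zpowers_le.2 hx
    obtain ⟨j, hj⟩ := (hP.of_le l).card_eq_pow
    have a := card_mul_relIndex l
    have j2 : 2 ≤ j := by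
      by_contra k
      exact e (orderOf_dvd_iff_pow_eq_one.1 (by
        rw [← Nat.card_zpowers, hj]; simpa using pow_dvd_pow p (show j ≤ 1 by omega)))
    obtain ⟨j, rfl⟩ := Nat.exists_eq_add_of_le j2
    rw [hj, hn, pow_add, mul_assoc, pow_succ _ 2] at a
    have a1 := Nat.eq_of_mul_eq_mul_left (pow_pos hp.pos 2) a
    rcases (Nat.dvd_prime hp).1 (Dvd.intro_left _ a1) with e1 | e1
    · exact metacyc_of_le_sup .rfl (cyc_zpowers.of_le (relIndex_eq_one_iff.1 e1)) (one_mem _) le_sup_left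
    · exact metacyc_of_relIndex_prime (nml_of_relIndex_prime hp hP l e1) cyc_zpowers (e1 ▸ hp)
  · subst h3
    refine Or.inr ⟨rfl, n, h1, ⟨hp, hn, h1.le, fun e => (mx_top hp h1.le hn k).ne ?_⟩, k⟩
    rw [← map_eq_bot_iff_of_injective _ P.subtype_injective, ← e, gam, gam, map_lowerCentralSeries,
      ← MonoidHom.range_eq_map, range_subtype]

theorem Cls.gam_three_le (c : Cls p P) (hp : p.Prime) (hP : PiGrp {p} P) (hr : prank p P ≤ 2) (hM : M ⊴ P)
    (hi : M.relIndex P = p) : gam P 3 ≤ Φ(M) := by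
  rcases c with m | ⟨W, r⟩ | ⟨rfl, n, h4, m, -⟩
  · refine gam_le_of_d2 hP hp hM hi (Nat.le_of_dvd (pow_pos hp.pos 2) ?_)
    rw [← card_quo H18.phi_nml.norm]
    refine metacyc_card_dvd (metacyc_mim (metacyc_of_le m hM.le) H18.phi_nml.norm) fun x hx => ?_
    obtain ⟨y, hy, rfl⟩ := (mem_quo H18.phi_nml.norm).1 hx
    rw [← mfun_pow (H18.phi_nml.norm hy)]
    exact cs_eq_one ((hP.of_le hM.le).pow_mem_phi hp hy)
  · refine gam_le_of_min hP hp hr hM hi ?_ r.cardZ fun z h1 h2 => r.mem_Z h1 (C_anti r.nml.le h2)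
    refine (comm_mono ?_ le_rfl).trans r.VS
    have nV := r.nV.norm
    obtain ⟨K, k1, k2⟩ : ∃ K, Abel K ∧ W ⊔ K = P := by
      by_cases hn : ⁅W, P⁆ ≤ ⁅W, W⁆
      · exact ⟨_, r.cycC.abel, r.sup_eq hn⟩
      · obtain ⟨c, -, -, e⟩ := r.exists_c hn
        exact ⟨_, abel_zpowers, e⟩
    have z1 : K ≤ P := k2 ▸ le_sup_right
    refine (show ⁅P, P⁆ ≤ ⁅W ⊔ K, P⁆ from comm_mono k2.ge le_rfl).trans ?_
    refine comm_sup_le le_rfl ((comm_mono le_rfl k2.ge).trans ?_) (r.nml.le.trans nV) (z1.trans nV)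
    exact comm_sup_le' (comm_comm.le.trans (comm_mono le_rfl z1)) (k1.der.le.trans bot_le)
      (r.nml.le.trans nV) (z1.trans nV)
  · rcases h4.eq_or_lt with rfl | h4
    · exact gam_le_of_min hP hp hr hM hi le_rfl (m.card_gam (j := 1) (by omega) rfl)
        fun z h1 h2 _ => mem_gam_of_cent m h1 h2
    · exact gam_le_of_d2 hP hp hM hi (m.three_rank h4 hM.le)

end H19.Iso
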