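import Cfsg.Agent.H19.Iso1
import Cfsg.Agent.H21.Extra
import Cfsg.Agent.S2792

/-! Sylow subgroups of rank at most two containing an isolated element of a perfect group (`H19.Iso.ml`,
`ml2`, `ml3`): extraspecial of order `p³` and exponent `p`, or `3`-groups of maximal class and odd exponent. -/

set_option autoImplicit false

namespace H19.Iso

open Subgroup Cfsg H18 H3 H19.MXD
open scoped commutatorElement

variable {G : Type*} [Group G] [Finite G] {p : ℕ} {T : Subgroup G} {w l : G}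

/-- the list of Sylow subgroups -/
def Lst (p : ℕ) (P : Subgroup G) : Prop :=
  (IsExtraspecial p P ∧ Nat.card P = p ^ 3 ∧ ∀ y ∈ P, y ^ p = 1) ∨
    (p = 3 ∧ ∃ k : ℕ, 2 ≤ k ∧ Nat.card P = 3 ^ (2 * k + 1) ∧
      ∃ _ : Group.IsNilpotent P, Group.nilpotencyClass P = 2 * k)

theorem le_der_N [hp : Fact p.Prime] (h2 : p ≠ 2) (S : Sylow p G) (hr : prank p (S : Subgroup G) ≤ 2)
    (h : (S : Subgroup G) ≤ commutator G) : (S : Subgroup G) ≤ ⁅N((S : Subgroup G)), N((S : Subgroup G))⁆ := by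
  by_contra hn
  have hP := (hall_sylow_top hp.out S).pi
  obtain ⟨x, hx, z, hz, W, hW, -, k⟩ := Cfsg.Agent.S2792.result S S ⟨le_rfl, fun g hg =>
    eq_of_card_eq hg (card_map_of_injective (MulAut.conj g).injective)⟩
    fun e => hn (inf_eq_left.1 (e.symm.trans (inf_eq_left.2 h)))
  obtain ⟨n1, i1⟩ := index_eq_prime_of_isCoatom S.2 hW
  have it : ∀ k, (fun y : G => y⁻¹ * z⁻¹ * y * z)^[k] x ∈ gam (S : Subgroup G) (k + 1) := fun k => by
    induction k with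
    | zero => exact hx
    | succ k ih =>
      rw [Function.iterate_succ_apply']
      simpa [commutatorElement_def] using comm_mem_gam (j := 1) (inv_mem ih) (inv_mem hz)
  have i2 : (W.map (S : Subgroup G).subtype).relIndex S = p := by
    rw [relIndex, subgroupOf, comap_map_eq_self_of_injective (subtype_injective _), i1]
  have hW' : PiGrp {p} W := piGrp_of_isPGroup hp.out (S.2.to_subgroup W)
  refine k ((H3.phi_le_iff hp.out (hP.of_le (map_subtype_le W))).2 ⟨?_, ?_⟩ ((cls hp.out h2 hP hr).gam_three_le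
    hp.out hP hr nml_map_subtype i2 (gam_anti (by have := three_le hp.out h2; omega) (it _))))
  · rw [← map_commutator]; exact map_mono (hW'.der_le_phi hp.out)
  · rintro _ ⟨y, hy, rfl⟩
    exact ⟨_, hW'.pow_mem_phi hp.out hy, map_pow _ _ _⟩

theorem ml [hp : Fact p.Prime] (h2 : p ≠ 2) (S : Sylow p G) (hr : prank p (S : Subgroup G) ≤ 2)
    (h : (S : Subgroup G) ≤ commutator G) (hw : w ∈ (S : Subgroup G)) (e : w ^ p = 1) (h1 : w ≠ 1)
    (hc : w ∈ C(N((S : Subgroup G)))) :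
    Lst p (S : Subgroup G) ∧ ∀ z ∈ (S : Subgroup G), z ∈ C((S : Subgroup G)) → z ∈ zpowers w := by
  have k := le_der_N h2 S hr h
  have hP := (hall_sylow_top hp.out S).of_le le_N le_top
  generalize (S : Subgroup G) = P at *
  obtain ⟨A, hA⟩ := hP.exists_sd le_rfl
  have c : Cf p P A w := ⟨hp.out, h2, hP.pi, hr, (hA.hall_compl hP).pi, hA.norm, fun D d1 d2 d3 b hb d4 => by
    have n1 := norm_of_der_le d3 d1
    refine mem_of_cent_mod hP k (hA.sup ▸ sup_le n1 d2) d3 hb fun g hg => ?_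
    obtain ⟨u, hu, a, ha, rfl⟩ := hA.mem_iff.1 hg
    rw [comm_mul_right']
    exact mul_mem (d3 (commutator_mem_commutator hb hu)) (conj_mem n1 hu (d4 a ha)),
    hw, e, h1, C_anti le_N hc, C_anti hA.norm hc⟩
  rcases cls hp.out h2 hP.pi hr with m | ⟨W, r⟩ | ⟨rfl, n, h4, m, h5⟩
  · exact (c.not_meta m).elim
  · obtain rfl := c.rk2 r
    have z1 : Nat.card (Z(W) : Subgroup G) = p := r.Z_eq ▸ r.cardZ
    exact ⟨Or.inl ⟨(H21.isExtraspecial_iff hp.out).2 ⟨⟨z1, r.Zc⟩, r.not_abel⟩, r.card, r.ex⟩, fun z z2 z3 =>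
      (zpowers_eq_of_prime (z1 ▸ hp.out) (show w ∈ Z(W) from ⟨hw, c.cP⟩) h1).ge ⟨z2, z3⟩⟩
  · obtain ⟨k, rfl⟩ := c.odd' m h4
    have c3 : Nat.card (gam P (2 * k + 1 - 1)) = 3 := m.card_gam (j := 1) (by omega) (by omega)
    exact ⟨Or.inr ⟨rfl, k, by omega, m.card, hP.pi.nil, h5⟩, fun z z2 z3 =>
      (zpowers_eq_of_prime (c3 ▸ hp.out) (mem_gam_of_cent m hw c.cP) h1).ge (mem_gam_of_cent m z2 z3)⟩

theorem iso_cent (hi : IsIsolated l) (hT : Nil T) (hl : l ∈ T) : l ∈ C(T) := by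
  have e := hT.eq_of_norm_le (K := T ⊓ C1(l)) inf_le_left fun g hg => ⟨hg.1, mem_C1.2 (by
    have := hi g (mem_C1.1 (conj_mem_N hg.2 (show l ∈ T ⊓ C1(l) from ⟨hl, C1_self⟩)).2).symm
    exact mul_inv_eq_iff_eq_mul.1 this)⟩
  exact mem_C.2 fun g hg => mem_C1.1 (e.ge hg).2

theorem ml2 [hp : Fact p.Prime] (h2 : p ≠ 2) (hG : commutator G = ⊤) (hr : PRankLE p 2 G) (h1 : l ≠ 1)
    (hi : IsIsolated l) (S : Sylow p G) (hl : l ∈ (S : Subgroup G)) :
    Lst p (S : Subgroup G) ∧ ∀ z ∈ center G, z ≠ 1 → z ^ p = 1 → l ∈ center G := by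
  have hP := hall_sylow_top hp.out S
  have c := iso_cent hi hP.pi.nil hl
  obtain ⟨k, k1, k2⟩ := exists_pow_mem_not_mem (P := ⊥) S.2 hl (mt mem_bot.1 h1)
  rw [mem_bot] at k1 k2
  have c1 : l ∈ C(N((S : Subgroup G))) := mem_C.2 fun g hg =>
    mul_inv_eq_iff_eq_mul.1 (hi g (mem_C.1 c _ (conj_mem_N hg hl)).symm)
  obtain ⟨a, b⟩ := ml h2 S ((H18.prank_mono hp.out le_top).trans ((H18.prank_top_le_iff hp.out).2 hr))
    (hG ▸ le_top) (pow_mem hl _) k2 k1 (pow_mem c1 _)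
  refine ⟨a, fun z z1 z2 z3 => ?_⟩
  have o : ∀ {u : G}, u ≠ 1 → u ^ p = 1 → Nat.card (zpowers u) = p := fun u1 u2 => by
    rw [Nat.card_zpowers, orderOf_eq_prime u2 u1]
  obtain ⟨g, -, hg⟩ := sylow_le_cj' hp.out hP (piGrp_of_card_pow (n := 1) hp.out ((o z2 z3).trans (pow_one p).symm)) le_top
  have z4 : z ∈ (S : Subgroup G) := by
    have := mem_cj.1 (hg (mem_zpowers z))
    rwa [mem_center_iff.1 z1, inv_mul_cancel_right] at this
  exact zpowers_le.2 z1 ((zpowers_eq_of_prime ((o k1 k2).symm ▸ hp.out)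
    (b z z4 (mem_C.2 fun g _ => mem_center_iff.1 z1 g)) z2).ge (b l hl c))

omit [Finite G] in
theorem iso_conj (hi : IsIsolated l) (g : G) : IsIsolated (g * l * g⁻¹) := fun u hu => by
  have := hi (g⁻¹ * u * g) (by
    have := hu.map (MulAut.conj g⁻¹)
    simpa [mul_assoc] using this)
  calc u * (g * l * g⁻¹) * u⁻¹ = g * (g⁻¹ * u * g * l * (g⁻¹ * u * g)⁻¹) * g⁻¹ := by group
    _ = _ := by rw [this]

theorem exists_conj_mem [hp : Fact p.Prime] (hl : ∃ k, l ^ p ^ k = 1) (S : Sylow p G) :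
    ∃ g : G, g * l * g⁻¹ ∈ (S : Subgroup G) := by
  obtain ⟨k, hk⟩ := hl
  obtain ⟨j, -, hj⟩ := (Nat.dvd_prime_pow hp.out).1 (orderOf_dvd_of_pow_eq_one hk)
  obtain ⟨g, -, hg⟩ := sylow_le_cj' hp.out (hall_sylow_top hp.out S)
    (piGrp_of_card_pow hp.out ((Nat.card_zpowers l).trans hj)) le_top
  exact ⟨g⁻¹, by simpa using mem_cj.1 (hg (mem_zpowers l))⟩

theorem ml3 [hp : Fact p.Prime] (h2 : p ≠ 2) (hG : commutator G = ⊤) (hr : PRankLE p 2 G) (h1 : l ≠ 1)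
    (hl : ∃ k, l ^ p ^ k = 1) (hi : IsIsolated l) (z : G) (z1 : z ∈ center G) (z2 : z ≠ 1) (z3 : z ^ p = 1) :
    l ∈ center G := by
  obtain ⟨S⟩ := (inferInstance : Nonempty (Sylow p G))
  obtain ⟨g, hg⟩ := exists_conj_mem hl S
  have := (ml2 h2 hG hr (by simpa using h1) (iso_conj hi g) S hg).2 z z1 z2 z3
  simpa [mul_assoc] using (inferInstance : (center G).Normal).conj_mem _ this g⁻¹

end H19.Iso
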