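import Cfsg.Agent.H10.SL
import Cfsg.Agent.H2.Gaschutz
import Mathlib.GroupTheory.Sylow

/-! Central 2-covers of `PSL(3,4)`: abstract lemmas (`sq_one`, `ea_compl`, `split`) on preimages of the two
elementary abelian subgroups of order 16 in a Sylow 2-subgroup, and the concrete facts in `SL(3,F)`, `|F| = 4`. -/

set_option autoImplicit false

namespace H19.L34
open Subgroup Matrix
open scoped MatrixGroups Pointwise

section abs
variable {X L : Type*} [Group X] [Group L]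

theorem sq_one (ψ : X →* L) (hs : Function.Surjective ψ) (hk : ψ.ker = center X) (hZ : ∀ z ∈ center X, z ^ 2 = 1)
    (A : Subgroup L) (h2 : ∀ a ∈ A, a ^ 2 = 1) (hc : ∀ a ∈ A, ∀ b ∈ A, a ≠ 1 → b ≠ 1 → IsConj a b)
    (u v w : L) (hu : u ∈ A) (hv : v ∈ A) (hw : w ∈ A) (u1 : u ≠ 1) (v1 : v ≠ 1) (w1 : w ≠ 1) (uv : u * v ≠ 1)
    (uw : u * w ≠ 1) (vw : v * w ≠ 1) (uvw : u * (v * w) ≠ 1) : ∀ x, ψ x ∈ A → x ^ 2 = 1 := by
  have cen : ∀ x, ψ x = 1 → x ∈ center X := fun x hx => hk ▸ hx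
  have sqc : ∀ x, ψ x ∈ A → x ^ 2 ∈ center X := fun x hx => cen _ (by rw [map_pow, h2 _ hx])
  have same : ∀ x y, ψ x ∈ A → ψ y ∈ A → ψ x ≠ 1 → ψ y ≠ 1 → x ^ 2 = y ^ 2 := by
    intro x y hx hy x1 y1
    obtain ⟨n, hn⟩ := isConj_iff.1 (hc _ hx _ hy x1 y1)
    obtain ⟨g, rfl⟩ := hs n
    have hz : y⁻¹ * (g * x * g⁻¹) ∈ center X := cen _ (by simp [hn])
    set z := y⁻¹ * (g * x * g⁻¹) with hzd
    have e : g * x * g⁻¹ = y * z := by rw [hzd]; group
    have e1 : (g * x * g⁻¹) ^ 2 = x ^ 2 := by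
      rw [conj_pow, mem_center_iff.1 (sqc x hx) g]; group
    have cm : Commute y z := mem_center_iff.1 hz y
    rw [← e1, e, cm.mul_pow, hZ z hz, mul_one]
  obtain ⟨a, rfl⟩ := hs u
  obtain ⟨b, rfl⟩ := hs v
  obtain ⟨d, rfl⟩ := hs w
  set c := a ^ 2 with hcd
  have hcc : c ∈ center X := sqc a hu
  have key : ∀ x y, ψ x ∈ A → ψ y ∈ A → ψ x ≠ 1 → ψ y ≠ 1 → ψ x * ψ y ≠ 1 → x * y = y * x * c := by
    intro x y hx hy x1 y1 xy
    have e1 := same x a hx hu x1 u1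
    have e2 := same y a hy hu y1 u1
    have e3 := same (x * y) a (by rw [map_mul]; exact mul_mem hx hy) hu (by rwa [map_mul]) u1
    rw [← hcd] at e1 e2 e3
    have e4 : y * x * y = x := by
      have : x * (y * x * y) = x * x := by rw [← pow_two x, e1, ← e3, pow_two]; group
      exact mul_left_cancel this
    rw [← e2, pow_two, ← mul_assoc, e4]
  have c1 : c = 1 := by
    have e1 := key a b hu hv u1 v1 uv
    have e2 := key a d hu hw u1 w1 uw
    have e3 := key a (b * d) hu (by rw [map_mul]; exact mul_mem hv hw) u1 (by rwa [map_mul]) (by rwa [map_mul])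
    have cc : c * c = 1 := by rw [← pow_two]; exact hZ c hcc
    have hm := mem_center_iff.1 hcc
    have : a * (b * d) = b * d * a := by
      calc a * (b * d) = b * a * (c * d) := by rw [← mul_assoc, e1, mul_assoc]
        _ = b * (a * d) * c := by rw [← hm d]; group
        _ = b * d * a * (c * c) := by rw [e2]; group
        _ = _ := by rw [cc, mul_one]
    rw [this] at e3
    exact (left_eq_mul.1 e3)
  intro x hx
  by_cases x1 : ψ x = 1
  · exact hZ x (cen x x1)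
  · rw [same x a hx hu x1 u1, ← hcd, c1]

theorem comm_of_sq {G : Type*} [Group G] (H : Subgroup G) (h : ∀ x ∈ H, x ^ 2 = 1) : IsMulCommutative H := by
  refine ⟨⟨fun a b => Subtype.ext ?_⟩⟩
  have i : ∀ x ∈ H, x⁻¹ = x := fun x hx => inv_eq_of_mul_eq_one_right (by rw [← pow_two, h x hx])
  have := i _ (mul_mem a.2 b.2)
  rw [_root_.mul_inv_rev, i _ a.2, i _ b.2] at this
  exact this.symm

/-- a complement to `H` in `H ⊔ K` inside an elementary abelian `K` -/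
theorem ea_compl {G : Type*} [Group G] [Finite G] (H K : Subgroup G) [H.Normal] (h : ∀ x ∈ K, x ^ 2 = 1) :
    ∃ A : Subgroup G, A ⊓ H = ⊥ ∧ H ⊔ A = H ⊔ K := by
  obtain ⟨A, ⟨hAK, hAH⟩, hmax⟩ := Set.Finite.exists_maximal (Set.toFinite {A : Subgroup G | A ≤ K ∧ A ⊓ H = ⊥})
    ⟨⊥, by simp⟩
  refine ⟨A, hAH, le_antisymm (sup_le_sup_left hAK _) (sup_le le_sup_left fun k hk => ?_)⟩
  by_contra hn
  have cm := comm_of_sq K h
  have com : ∀ x ∈ K, ∀ y ∈ K, x * y = y * x := fun x hx y hy =>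
    congrArg Subtype.val (cm.is_comm.comm ⟨x, hx⟩ ⟨y, hy⟩)
  have kk : k * k = 1 := by rw [← pow_two]; exact h k hk
  let B : Subgroup G :=
    { carrier := {x | x ∈ A ∨ k * x ∈ A}
      one_mem' := Or.inl A.one_mem
      mul_mem' := by
        have mk : ∀ {x}, k * x ∈ A → x ∈ K := fun {x} hx => by
          simpa using mul_mem (inv_mem hk) (hAK hx)
        rintro x y (hx | hx) (hy | hy)
        · exact Or.inl (mul_mem hx hy)
        · refine Or.inr ?_
          rw [← mul_assoc, com k hk x (hAK hx), mul_assoc]; exact mul_mem hx hy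
        · refine Or.inr ?_
          rw [← mul_assoc]; exact mul_mem hx hy
        · refine Or.inl ?_
          have := mul_mem hx hy
          rwa [com k hk x (mk hx), mul_assoc, ← mul_assoc k k, kk, one_mul] at this
      inv_mem' := by
        rintro x (hx | hx)
        · exact Or.inl (inv_mem hx)
        · refine Or.inr ?_
          have hxK : x ∈ K := by simpa using mul_mem (inv_mem hk) (hAK hx)
          have := inv_mem hx
          rwa [_root_.mul_inv_rev, inv_eq_of_mul_eq_one_right kk, com _ (inv_mem hxK) k hk] at this }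
  have hB : B ≤ K ∧ B ⊓ H = ⊥ := by
    refine ⟨?_, eq_bot_iff.2 ?_⟩
    · rintro x (hx | hx)
      · exact hAK hx
      · simpa using mul_mem (inv_mem hk) (hAK hx)
    · rintro x ⟨hx | hx, hxH⟩
      · exact hAH.le ⟨hx, hxH⟩
      · exact absurd (by simpa using mul_mem (mem_sup_right hx : k * x ∈ H ⊔ A) (inv_mem (mem_sup_left hxH))) hn
  have : B ≤ A := hmax hB fun x hx => Or.inl hx
  exact hn (mem_sup_right (this (Or.inr (by rw [kk]; exact A.one_mem))))

theorem split [Finite X] (ψ : X →* L) (hs : Function.Surjective ψ) (A B D : Subgroup L)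
    (hA : ∀ x, ψ x ∈ A → x ^ 2 = 1) (hB : ∀ x, ψ x ∈ B → x ^ 2 = 1) (hBN : B ≤ normalizer (A : Set L))
    (hodd : ¬ 2 ∣ (A ⊔ B).index) (hDA : D ⊓ A = ⊥) (hAD : A ⊔ D = normalizer (A : Set L)) :
    ∃ C : Subgroup X, C ≤ normalizer (A.comap ψ : Set X) ∧ C ⊓ A.comap ψ = ⊥ ∧
      A.comap ψ ⊔ C = normalizer (A.comap ψ : Set X) ∧ Nonempty (C ≃* D) := by
  set H := A.comap ψ with hH
  set K := B.comap ψ with hK
  set N := normalizer (H : Set X) with hN
  have hNe : N = (normalizer (A : Set L)).comap ψ := (comap_normalizer_eq_of_surjective A hs).symm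
  have hKN : K ≤ N := hNe ▸ comap_mono hBN
  have hHN : H ≤ N := le_normalizer
  have : (H.subgroupOf N).Normal := normal_in_normalizer
  have sq : ∀ x ∈ H.subgroupOf N, x ^ 2 = 1 := fun x hx => Subtype.ext (hA x.1 hx)
  have := comm_of_sq _ sq
  obtain ⟨A', h1, h2⟩ := ea_compl (H.subgroupOf N) (K.subgroupOf N) fun x hx => Subtype.ext (hB x.1 hx)
  have hp : IsPGroup 2 (H.subgroupOf N) := fun x => ⟨1, Subtype.ext (by simpa using sq x.1 x.2)⟩
  obtain ⟨k, hk⟩ := IsPGroup.iff_card.1 hp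
  have hi : (H.subgroupOf N ⊔ K.subgroupOf N).index ∣ (A ⊔ B).index := by
    rw [← subgroupOf_sup hHN hKN, ← index_comap_of_surjective (A ⊔ B) hs, ← comap_sup_eq ψ A B hs]
    exact relIndex_dvd_index_of_le (sup_le hHN hKN)
  obtain ⟨C', hC'⟩ := H2.gaschutz_exists (H.subgroupOf N) (H.subgroupOf N ⊔ K.subgroupOf N) le_sup_left
    (by rw [hk]; exact Nat.Coprime.pow_left _ ((Nat.Prime.coprime_iff_not_dvd Nat.prime_two).2 fun h => hodd (h.trans hi)))
    A' h1 h2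
  have d1 : C'.map N.subtype ⊓ H = ⊥ := by
    rw [eq_bot_iff]
    rintro _ ⟨⟨y, hy, rfl⟩, hyH⟩
    have := hC'.disjoint.le_bot ⟨(hyH : y ∈ H.subgroupOf N), hy⟩
    rw [mem_bot] at this ⊢
    simp [this]
  have d2 : H ⊔ C'.map N.subtype = N := by
    have := congrArg (map N.subtype) hC'.sup_eq_top
    rwa [Subgroup.map_sup, map_subgroupOf_eq_of_le hHN, ← MonoidHom.range_eq_map, range_subtype] at this
  refine ⟨C'.map N.subtype, map_subtype_le _, d1, d2, ?_⟩
  set C := C'.map N.subtype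
  set M := normalizer (A : Set L)
  have hAM : A ≤ M := le_normalizer
  have hDM : D ≤ M := hAD ▸ le_sup_right
  have hCM : C.map ψ ≤ M := by rw [map_le_iff_le_comap, ← hNe]; exact map_subtype_le _
  have : (A.subgroupOf M).Normal := normal_in_normalizer
  have cp : ∀ E : Subgroup L, E ≤ M → E ⊓ A = ⊥ → A ⊔ E = M → Nonempty (M ⧸ A.subgroupOf M ≃* E) := by
    intro E hE e1 e2
    have : IsComplement' (E.subgroupOf M) (A.subgroupOf M) := by
      refine (isComplement'_of_disjoint_and_mul_eq_univ ?_ ?_)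
      · rw [disjoint_iff, eq_bot_iff]
        intro x hx
        exact Subtype.ext (e1.le ⟨hx.1, hx.2⟩)
      · rw [← mul_normal, ← subgroupOf_sup hE hAM, sup_comm, e2, subgroupOf_self]; rfl
    exact ⟨this.QuotientMulEquiv.trans (subgroupOfEquivOfLe hE)⟩
  obtain ⟨e1⟩ := cp D hDM hDA hAD
  obtain ⟨e2⟩ := cp (C.map ψ) hCM (by
      rw [eq_bot_iff]
      rintro _ ⟨⟨y, hy, rfl⟩, hyA⟩
      have := d1.le ⟨hy, hyA⟩
      rw [mem_bot] at this ⊢
      simp [this])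
    (by rw [← map_comap_eq_self_of_surjective hs A, ← Subgroup.map_sup, ← hH, d2, hNe,
      map_comap_eq_self_of_surjective hs])
  have e3 : C ≃* C.map ψ := MulEquiv.ofBijective (ψ.subgroupMap C) ⟨by
    rw [injective_iff_map_eq_one]
    intro x hx
    have h0 : ψ x = 1 := congrArg Subtype.val hx
    exact Subtype.ext (d1.le ⟨x.2, show ψ x ∈ A by rw [h0]; exact A.one_mem⟩), ψ.subgroupMap_surjective C⟩
  exact ⟨e3.trans (e2.symm.trans e1)⟩

end abs

section conc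
variable {F : Type*} [Field F]

/-- upper unitriangular matrices -/
def u (x y z : F) : SL(3, F) := ⟨!![1, x, z; 0, 1, y; 0, 0, 1], by simp [det_fin_three]⟩

theorem u_coe (x y z : F) : (u x y z).1 = !![1, x, z; 0, 1, y; 0, 0, 1] := rfl

theorem cm (g h : SL(3, F)) : (g * h).1 = g.1 * h.1 := rfl

theorem u_mul (x y z x' y' z' : F) : u x y z * u x' y' z' = u (x + x') (y + y') (z + x * y' + z') := by
  ext i j; fin_cases i <;> fin_cases j <;> simp [u_coe, cm, mul_apply, Fin.sum_univ_three] <;> ring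

theorem u_zero : u (0 : F) 0 0 = 1 := by ext i j; fin_cases i <;> fin_cases j <;> simp [u]

theorem u_inv (x y z : F) : (u x y z)⁻¹ = u (-x) (-y) (x * y - z) :=
  inv_eq_of_mul_eq_one_right (by rw [u_mul, ← u_zero]; congr 1 <;> ring)

abbrev pi : SL(3, F) →* PSL(3, F) := QuotientGroup.mk' (center SL(3, F))

theorem pi_eq {g h : SL(3, F)} : pi g = pi h ↔ ∃ c : F, c ^ 3 = 1 ∧ g.1 = c • h.1 := by
  rw [eq_comm, QuotientGroup.mk'_eq_mk']
  constructor
  · rintro ⟨z, hz, rfl⟩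
    obtain ⟨c, hc, e⟩ := Matrix.SpecialLinearGroup.mem_center_iff.1 hz
    refine ⟨c, by simpa using hc, ?_⟩
    rw [Matrix.SpecialLinearGroup.coe_mul, ← e]
    ext i j; simp [mul_comm]
  · rintro ⟨c, hc, e⟩
    refine ⟨⟨scalar (Fin 3) c, by simpa using hc⟩, Matrix.SpecialLinearGroup.mem_center_iff.2 ⟨c, by simpa using hc, rfl⟩, ?_⟩
    apply Subtype.ext
    change h.1 * scalar (Fin 3) c = _
    rw [e]
    ext i j; simp [mul_comm]

theorem pi_u_inj {x y z x' y' z' : F} (h : pi (u x y z) = pi (u x' y' z')) : x = x' ∧ y = y' ∧ z = z' := by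
  obtain ⟨c, -, e⟩ := pi_eq.1 h
  have e0 := congrFun (congrFun e 0) 0
  have e1 := congrFun (congrFun e 0) 1
  have e2 := congrFun (congrFun e 1) 2
  have e3 := congrFun (congrFun e 0) 2
  simp [u] at e0 e1 e2 e3
  subst e0
  simp_all

variable (F) in
def U : Subgroup PSL(3, F) where
  carrier := {g | ∃ x y z, g = pi (u x y z)}
  one_mem' := ⟨0, 0, 0, by rw [u_zero, map_one]⟩
  mul_mem' := by rintro _ _ ⟨x, y, z, rfl⟩ ⟨x', y', z', rfl⟩; exact ⟨_, _, _, by rw [← map_mul, u_mul]⟩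
  inv_mem' := by rintro _ ⟨x, y, z, rfl⟩; exact ⟨_, _, _, by rw [← map_inv, u_inv]⟩

variable (F) in
def A1 : Subgroup PSL(3, F) where
  carrier := {g | ∃ y z, g = pi (u 0 y z)}
  one_mem' := ⟨0, 0, by rw [u_zero, map_one]⟩
  mul_mem' := by rintro _ _ ⟨y, z, rfl⟩ ⟨y', z', rfl⟩; exact ⟨_, _, by rw [← map_mul, u_mul, add_zero]⟩
  inv_mem' := by rintro _ ⟨y, z, rfl⟩; exact ⟨_, _, by rw [← map_inv, u_inv, neg_zero]⟩

variable (F) in
def A2 : Subgroup PSL(3, F) where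
  carrier := {g | ∃ x z, g = pi (u x 0 z)}
  one_mem' := ⟨0, 0, by rw [u_zero, map_one]⟩
  mul_mem' := by rintro _ _ ⟨y, z, rfl⟩ ⟨y', z', rfl⟩; exact ⟨_, _, by rw [← map_mul, u_mul, add_zero]⟩
  inv_mem' := by rintro _ ⟨y, z, rfl⟩; exact ⟨_, _, by rw [← map_inv, u_inv, neg_zero]⟩

theorem sup_eq : A1 F ⊔ A2 F = U F := by
  refine le_antisymm (sup_le ?_ ?_) ?_
  · rintro _ ⟨y, z, rfl⟩; exact ⟨_, _, _, rfl⟩
  · rintro _ ⟨y, z, rfl⟩; exact ⟨_, _, _, rfl⟩
  · rintro _ ⟨x, y, z, rfl⟩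
    have : u x y z = u 0 y z * u x 0 0 := by rw [u_mul]; simp
    rw [this, map_mul]
    exact mul_mem (mem_sup_left ⟨_, _, rfl⟩) (mem_sup_right ⟨_, _, rfl⟩)

/-- block diagonal embedding of `SL(2)` -/
def dm : SL(2, F) →* SL(3, F) where
  toFun M := ⟨!![M 0 0, M 0 1, 0; M 1 0, M 1 1, 0; 0, 0, 1], by
    have := M.det_coe; rw [det_fin_two] at this; simp [det_fin_three, this]⟩
  map_one' := by ext i j; fin_cases i <;> fin_cases j <;> simp
  map_mul' M N := by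
    apply Subtype.ext
    change _ = !![M 0 0, M 0 1, 0; M 1 0, M 1 1, 0; 0, 0, 1] * !![N 0 0, N 0 1, 0; N 1 0, N 1 1, 0; 0, 0, 1]
    ext i j; fin_cases i <;> fin_cases j <;> simp [mul_apply, Fin.sum_univ_three, Fin.sum_univ_two]

theorem dm_coe (M : SL(2, F)) : (dm M).1 = !![M 0 0, M 0 1, 0; M 1 0, M 1 1, 0; 0, 0, 1] := rfl

theorem dm_u (M : SL(2, F)) (y z : F) :
    dm M * u 0 y z = u 0 (M 1 0 * z + M 1 1 * y) (M 0 0 * z + M 0 1 * y) * dm M := by
  apply Subtype.ext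
  simp only [cm, dm_coe, u_coe]
  ext i j; fin_cases i <;> fin_cases j <;> simp [mul_apply, Fin.sum_univ_three]

theorem conj1 : ∀ a ∈ A1 F, ∀ b ∈ A1 F, a ≠ 1 → b ≠ 1 → IsConj a b := by
  have key : ∀ a ∈ A1 F, a ≠ 1 → IsConj (pi (u 0 0 1)) a := by
    rintro _ ⟨y, z, rfl⟩ h1
    have : ∃ M : SL(2, F), M 1 0 = y ∧ M 0 0 = z := by
      by_cases hz : z = 0
      · have hy : y ≠ 0 := by rintro rfl; rw [hz, u_zero] at h1; exact h1 (map_one _)
        exact ⟨⟨!![z, -y⁻¹; y, 0], by simp [det_fin_two, hy]⟩, rfl, rfl⟩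
      · exact ⟨⟨!![z, 0; y, z⁻¹], by simp [det_fin_two, hz]⟩, rfl, rfl⟩
    obtain ⟨M, rfl, rfl⟩ := this
    refine isConj_iff.2 ⟨pi (dm M), ?_⟩
    rw [← map_mul, dm_u, map_mul]; simp
  exact fun a ha b hb a1 b1 => (key a ha a1).symm.trans (key b hb b1)

theorem dm_norm (M : SL(2, F)) : pi (dm M) ∈ normalizer (A1 F : Set PSL(3, F)) := by
  have key : ∀ M : SL(2, F), ∀ a ∈ A1 F, pi (dm M) * a * (pi (dm M))⁻¹ ∈ A1 F := by
    rintro M _ ⟨y, z, rfl⟩
    rw [← map_mul, dm_u, map_mul, mul_inv_cancel_right]; exact ⟨_, _, rfl⟩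
  refine mem_normalizer_iff.2 fun a => ⟨key M a, fun h => ?_⟩
  have := key M⁻¹ _ h
  simpa [map_inv, mul_assoc] using this

theorem A2_norm : A2 F ≤ normalizer (A1 F : Set PSL(3, F)) := by
  have key : ∀ b ∈ A2 F, ∀ a ∈ A1 F, b * a * b⁻¹ ∈ A1 F := by
    rintro _ ⟨x, w, rfl⟩ _ ⟨y, z, rfl⟩
    rw [← map_mul, ← map_inv, ← map_mul, u_inv, u_mul, u_mul]
    exact ⟨_, _, by rw [add_zero, add_neg_cancel]⟩
  intro b hb
  refine mem_normalizer_iff.2 fun a => ⟨key b hb a, fun h => ?_⟩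
  have := key _ (inv_mem hb) _ h
  simpa [mul_assoc] using this

theorem D_inf (M : SL(2, F)) (h : pi (dm M) ∈ A1 F) : M = 1 := by
  obtain ⟨y, z, h⟩ := h
  obtain ⟨c, -, e⟩ := pi_eq.1 h
  have f := fun i j => congrFun (congrFun e i) j
  have e0 := f 2 2
  have e1 := f 0 0
  have e2 := f 0 1
  have e3 := f 1 0
  have e4 := f 1 1
  simp [u, dm_coe] at e0 e1 e2 e3 e4
  subst e0
  ext i j; fin_cases i <;> fin_cases j <;> simp_all

theorem low (h2 : (2 : F) = 0) (g : SL(3, F)) {a y z : F} (h : pi g * pi (u 0 a (1 - a)) * (pi g)⁻¹ = pi (u 0 y z)) :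
    ∀ i j, (g * u 0 a (1 - a)) i j = (u 0 y z * g) i j := by
  rw [← map_mul, ← map_inv, ← map_mul] at h
  obtain ⟨c, hc, e⟩ := pi_eq.1 h
  have s1 : ∀ y z : F, u 0 y z * u 0 y z = 1 := fun y z => by
    rw [u_mul, ← u_zero]; congr 1
    · simp
    · linear_combination y * h2
    · linear_combination z * h2
  have s2 : (g * u 0 a (1 - a) * g⁻¹) * (g * u 0 a (1 - a) * g⁻¹) = 1 := by
    calc _ = g * (u 0 a (1 - a) * u 0 a (1 - a)) * g⁻¹ := by group
      _ = 1 := by rw [s1]; group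
  have s3 := congrArg Subtype.val s2
  have s4 := congrArg Subtype.val (s1 y z)
  rw [cm] at s3 s4
  rw [e, smul_mul_smul_comm, s4] at s3
  have s5 := congrFun (congrFun s3 0) 0
  simp at s5
  have c1 : c = 1 := by linear_combination hc - c * s5
  rw [c1, one_smul] at e
  have : g * u 0 a (1 - a) = u 0 y z * g := by rw [← Subtype.ext e]; group
  intro i j; rw [this]

theorem norm_low (h2 : (2 : F) = 0) (g : SL(3, F)) (h : pi g ∈ normalizer (A1 F : Set PSL(3, F))) :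
    g 2 0 = 0 ∧ g 2 1 = 0 := by
  obtain ⟨y, z, e⟩ := (mem_normalizer_iff.1 h _).1 (⟨0, 1 - 0, rfl⟩ : pi (u 0 0 (1 - 0)) ∈ A1 F)
  obtain ⟨y', z', e'⟩ := (mem_normalizer_iff.1 h _).1 (⟨1, 1 - 1, rfl⟩ : pi (u 0 1 (1 - 1)) ∈ A1 F)
  have a := low h2 g e 2 2
  have b := low h2 g e' 2 2
  simp [u_coe, mul_apply, Fin.sum_univ_three] at a b
  exact ⟨a, b⟩

theorem cent1 (h2 : (2 : F) = 0) (g : PSL(3, F)) (h : ∀ a ∈ A1 F, g * a = a * g) : g ∈ A1 F := by
  obtain ⟨g, rfl⟩ := QuotientGroup.mk'_surjective _ g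
  have e := low h2 g (a := 0) (y := 0) (z := 1 - 0) (by rw [h _ ⟨_, _, rfl⟩, mul_inv_cancel_right])
  have e' := low h2 g (a := 1) (y := 1) (z := 1 - 1) (by rw [h _ ⟨_, _, rfl⟩, mul_inv_cancel_right])
  have a1 := e 2 2
  have a2 := e 0 2
  have a3 := e 1 2
  have b1 := e' 2 2
  have b2 := e' 0 2
  have b3 := e' 1 2
  have d := g.det_coe
  rw [det_fin_three] at d
  simp [u_coe, mul_apply, Fin.sum_univ_three] at a1 a2 a3 b1 b2 b3
  have a2' : g 0 0 = g 2 2 := by linear_combination a2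
  have b3' : g 1 1 = g 2 2 := by linear_combination b3
  simp [a1, a2', a3, b1, b2, b3'] at d
  have n0 : g 2 2 ≠ 0 := by rintro h0; simp [h0] at d
  refine ⟨g 1 2 / g 2 2, g 0 2 / g 2 2, pi_eq.2 ⟨g 2 2, by linear_combination d, ?_⟩⟩
  ext i j; fin_cases i <;> fin_cases j <;> simp [u, a1, a2', a3, b1, b2, b3'] <;> field_simp

theorem norm_eq (h2 : (2 : F) = 0) (h3 : ∀ c : F, c ≠ 0 → c ^ 3 = 1) :
    A1 F ⊔ (pi.comp dm).range = normalizer (A1 F : Set PSL(3, F)) := by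
  refine le_antisymm (sup_le le_normalizer (by rintro _ ⟨M, rfl⟩; exact dm_norm M)) fun g hg => ?_
  obtain ⟨g, rfl⟩ := QuotientGroup.mk'_surjective _ g
  obtain ⟨a, b⟩ := norm_low h2 g hg
  have d := g.det_coe
  rw [det_fin_three] at d
  simp [a, b] at d
  have n0 : g 2 2 ≠ 0 := by rintro h0; simp [h0] at d
  have c3 := h3 _ n0
  let M : SL(2, F) := ⟨!![g 2 2 ^ 2 * g 0 0, g 2 2 ^ 2 * g 0 1; g 2 2 ^ 2 * g 1 0, g 2 2 ^ 2 * g 1 1], by
    rw [det_fin_two_of]; linear_combination g 2 2 ^ 3 * d + c3⟩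
  have : pi g = pi (u 0 (g 1 2 / g 2 2) (g 0 2 / g 2 2) * dm M) := by
    refine pi_eq.2 ⟨g 2 2, c3, ?_⟩
    have m1 : M 0 0 = g 2 2 ^ 2 * g 0 0 := rfl
    have m2 : M 0 1 = g 2 2 ^ 2 * g 0 1 := rfl
    have m3 : M 1 0 = g 2 2 ^ 2 * g 1 0 := rfl
    have m4 : M 1 1 = g 2 2 ^ 2 * g 1 1 := rfl
    have c4 : ∀ t : F, g 2 2 * (g 2 2 ^ 2 * t) = t := fun t => by linear_combination t * c3
    rw [cm, dm_coe, u_coe, m1, m2, m3, m4]
    ext i j; fin_cases i <;> fin_cases j <;> simp [mul_apply, Fin.sum_univ_three, a, b, c4, mul_div_cancel₀, n0]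
  rw [this, map_mul]
  exact mul_mem (mem_sup_left ⟨_, _, rfl⟩) (mem_sup_right ⟨M, rfl⟩)

/-- the graph automorphism -/
def tau0 : SL(3, F) →* SL(3, F) where
  toFun g := ⟨(g⁻¹.1)ᵀ.submatrix Fin.rev Fin.rev, by
    rw [show (Fin.rev : Fin 3 → Fin 3) = Fin.revPerm from rfl, det_submatrix_equiv_self, det_transpose]; exact g⁻¹.2⟩
  map_one' := by ext i j; fin_cases i <;> fin_cases j <;> simp
  map_mul' g h := by
    apply Subtype.ext
    change ((g * h)⁻¹.1)ᵀ.submatrix Fin.revPerm Fin.revPerm =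
      (g⁻¹.1)ᵀ.submatrix Fin.revPerm Fin.revPerm * (h⁻¹.1)ᵀ.submatrix Fin.revPerm Fin.revPerm
    rw [_root_.mul_inv_rev, cm, transpose_mul, submatrix_mul_equiv]

theorem tau0_coe (g : SL(3, F)) : (tau0 g).1 = (g⁻¹.1)ᵀ.submatrix Fin.rev Fin.rev := rfl

theorem tau0_tau0 (g : SL(3, F)) : tau0 (tau0 g) = g := by
  apply Subtype.ext
  rw [tau0_coe, ← map_inv, tau0_coe, inv_inv]
  ext i j; simp

theorem tau0_u (x y z : F) : tau0 (u x y z) = u (-y) (-x) (x * y - z) := by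
  apply Subtype.ext
  rw [tau0_coe, u_inv, u_coe, u_coe]
  ext i j; fin_cases i <;> fin_cases j <;> simp [Fin.rev]

theorem tau0_center : center SL(3, F) ≤ (center SL(3, F)).comap tau0 := fun z hz =>
  mem_center_iff.2 fun g => by rw [← tau0_tau0 g, ← map_mul, mem_center_iff.1 hz, map_mul]

def tau : PSL(3, F) →* PSL(3, F) := QuotientGroup.map _ _ tau0 tau0_center

theorem tau_pi (g : SL(3, F)) : tau (pi g) = pi (tau0 g) := rfl

theorem tau_tau (g : PSL(3, F)) : tau (tau g) = g := by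
  obtain ⟨g, rfl⟩ := QuotientGroup.mk'_surjective _ g
  rw [tau_pi, tau_pi, tau0_tau0]

theorem tau1 {g : PSL(3, F)} (h : g ∈ A1 F) : tau g ∈ A2 F := by
  obtain ⟨y, z, rfl⟩ := h; exact ⟨_, _, by rw [tau_pi, tau0_u, neg_zero]⟩

theorem tau2 {g : PSL(3, F)} (h : g ∈ A2 F) : tau g ∈ A1 F := by
  obtain ⟨y, z, rfl⟩ := h; exact ⟨_, _, by rw [tau_pi, tau0_u, neg_zero]⟩

theorem comap1 : (A1 F).comap tau = A2 F := by
  ext g; exact ⟨fun h => tau_tau g ▸ tau1 h, tau2⟩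

theorem comap2 : (A2 F).comap tau = A1 F := by
  ext g; exact ⟨fun h => tau_tau g ▸ tau2 h, tau1⟩

theorem card_U [Fintype F] : Nat.card (U F) = Fintype.card F ^ 3 := by
  have : Nat.card (F × F × F) = Nat.card (U F) := Nat.card_eq_of_bijective
    (fun p => ⟨pi (u p.1 p.2.1 p.2.2), _, _, _, rfl⟩) ⟨fun p q h => by
      obtain ⟨a, b, c⟩ := pi_u_inj (congrArg Subtype.val h)
      exact Prod.ext a (Prod.ext b c), by rintro ⟨_, x, y, z, rfl⟩; exact ⟨(x, y, z), rfl⟩⟩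
  rw [← this]; simp [pow_succ, mul_assoc]

theorem card_A1 [Fintype F] : Nat.card (A1 F) ≤ Fintype.card F ^ 2 := by
  have : Nat.card (A1 F) ≤ Nat.card (F × F) := Nat.card_le_card_of_surjective
    (fun p : F × F => (⟨pi (u 0 p.1 p.2), _, _, rfl⟩ : A1 F)) (by rintro ⟨_, x, y, rfl⟩; exact ⟨(x, y), rfl⟩)
  simpa [pow_two] using this

theorem card_A2 [Fintype F] : Nat.card (A2 F) ≤ Fintype.card F ^ 2 := by
  have : Nat.card (A2 F) ≤ Nat.card (F × F) := Nat.card_le_card_of_surjective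
    (fun p : F × F => (⟨pi (u p.1 0 p.2), _, _, rfl⟩ : A2 F)) (by rintro ⟨_, x, y, rfl⟩; exact ⟨(x, y), rfl⟩)
  simpa [pow_two] using this

theorem two_ea [Fintype F] (E : Subgroup PSL(3, F)) (hE : E ≤ U F) (h2 : (2 : F) = 0) (hs : ∀ a ∈ E, a ^ 2 = 1)
    (hc : Nat.card E = Fintype.card F ^ 2) : E = A1 F ∨ E = A2 F := by
  have key : ∀ a ∈ E, a ∈ A1 F ∨ a ∈ A2 F := by
    intro a ha
    obtain ⟨x, y, z, rfl⟩ := hE ha
    have := hs _ ha
    rw [← map_pow, pow_two, u_mul, ← map_one pi, ← u_zero] at this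
    have := (pi_u_inj this).2.2
    rcases mul_eq_zero.1 (show x * y = 0 by linear_combination this - z * h2) with rfl | rfl
    · exact Or.inl ⟨_, _, rfl⟩
    · exact Or.inr ⟨_, _, rfl⟩
  have : E ≤ A1 F ∨ E ≤ A2 F := by
    by_contra hn
    simp only [not_or, SetLike.not_le_iff_exists] at hn
    obtain ⟨⟨a, ha, a1⟩, ⟨b, hb, b2⟩⟩ := hn
    have a2 := (key a ha).resolve_left a1
    have b1 := (key b hb).resolve_right b2
    rcases key _ (mul_mem ha hb) with h | h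
    · exact a1 (by simpa using mul_mem h (inv_mem b1))
    · exact b2 (by simpa using mul_mem (inv_mem a2) h)
  have fin : Finite PSL(3, F) := Quotient.finite _
  exact this.imp (fun h => eq_of_le_of_card_ge h (hc ▸ card_A1)) fun h => eq_of_le_of_card_ge h (hc ▸ card_A2)

theorem A1_sq (h2 : (2 : F) = 0) : ∀ a ∈ A1 F, a ^ 2 = 1 := by
  rintro _ ⟨y, z, rfl⟩
  rw [← map_pow, pow_two, u_mul, ← map_one pi, ← u_zero]; congr 2
  · simp
  · linear_combination y * h2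
  · linear_combination z * h2

/-- the preimage of `A1` is elementary abelian -/
theorem pre_sq {X : Type*} [Group X] (ψ : X →* PSL(3, F)) (hs : Function.Surjective ψ) (hk : ψ.ker = center X)
    (hZ : ∀ z ∈ center X, z ^ 2 = 1) (h2 : (2 : F) = 0) (ω : F) (h0 : ω ≠ 0) (h1 : ω ≠ 1) :
    ∀ x, ψ x ∈ A1 F → x ^ 2 = 1 := by
  have ne : ∀ y z : F, (y ≠ 0 ∨ z ≠ 0) → pi (u 0 y z) ≠ 1 := fun y z h e => by
    rw [← map_one pi, ← u_zero] at e
    obtain ⟨-, a, b⟩ := pi_u_inj e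
    tauto
  have h3 : 1 + ω ≠ 0 := fun e => h1 (by linear_combination e - h2)
  refine sq_one ψ hs hk hZ (A1 F) (A1_sq h2) conj1 (pi (u 0 1 0)) (pi (u 0 0 1)) (pi (u 0 0 ω)) ⟨_, _, rfl⟩ ⟨_, _, rfl⟩
    ⟨_, _, rfl⟩ (ne _ _ (by simp)) (ne _ _ (by simp)) (ne _ _ (by simp [h0])) ?_ ?_ ?_ ?_ <;>
  simp only [← map_mul, u_mul, add_zero] <;> apply ne <;> simp [h3]

theorem D_iso (h2 : (2 : F) = 0) : Nonempty ((pi.comp (dm (F := F))).range ≃* PSL(2, F)) := by
  have i1 : Function.Injective (pi.comp (dm (F := F))) :=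
    (injective_iff_map_eq_one _).2 fun M h => D_inf M (by rw [show pi (dm M) = 1 from h]; exact one_mem _)
  have i2 : Function.Injective (QuotientGroup.mk' (center SL(2, F))) := by
    rw [injective_iff_map_eq_one]
    intro z hz
    obtain ⟨c, hc, e⟩ := Matrix.SpecialLinearGroup.mem_center_iff.1 ((QuotientGroup.eq_one_iff z).1 hz)
    have : c = 1 := by
      have hc' : c ^ 2 = 1 := hc
      have : (c - 1) ^ 2 = 0 := by linear_combination hc' + (1 - c) * h2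
      exact sub_eq_zero.1 (pow_eq_zero_iff (two_ne_zero)|>.1 this)
    apply Subtype.ext; rw [← e, this]; simp
  exact ⟨(MonoidHom.ofInjective i1).symm.trans (MulEquiv.ofBijective _ ⟨i2, QuotientGroup.mk'_surjective _⟩)⟩

end conc

section main
variable {F : Type*} [Field F] [Fintype F] {X : Type*} [Group X] [Finite X]

theorem card_L (hF : Fintype.card F = 4) : Nat.card PSL(3, F) = 20160 := by
  have := H10.card_PSL (F := F) 3 (by norm_num)
  rw [hF] at this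
  simp [Fin.prod_univ_three] at this
  omega

theorem char2 (hF : Fintype.card F = 4) : (2 : F) = 0 := by
  have := FiniteField.cast_card_eq_zero F
  rw [hF] at this
  exact pow_eq_zero_iff two_ne_zero |>.1 (show (2 : F) ^ 2 = 0 by linear_combination this)

theorem index_U (hF : Fintype.card F = 4) : (U F).index = 315 := by
  have := (U F).card_mul_index
  rw [card_U, card_L hF, hF] at this
  omega

theorem half (hF : Fintype.card F = 4) (ψ : X →* PSL(3, F)) (hs : Function.Surjective ψ) (hk : ψ.ker = center X)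
    (hZ : ∀ z ∈ center X, z ^ 2 = 1) :
    (∀ x ∈ (A1 F).comap ψ, x ^ 2 = 1) ∧ (∀ x, (∀ y ∈ (A1 F).comap ψ, x * y = y * x) → x ∈ (A1 F).comap ψ) ∧
    ∃ C : Subgroup X, C ≤ normalizer ((A1 F).comap ψ : Set X) ∧ C ⊓ (A1 F).comap ψ = ⊥ ∧
      (A1 F).comap ψ ⊔ C = normalizer ((A1 F).comap ψ : Set X) ∧ Nonempty (C ≃* PSL(2, F)) := by
  classical
  have h2 := char2 hF
  obtain ⟨ω, hω⟩ : ∃ ω : F, ω ∉ ({0, 1} : Finset F) := by
    by_contra hn
    push Not at hn
    have := Finset.card_le_card (fun a _ => hn a : Finset.univ ⊆ ({0, 1} : Finset F))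
    have := Finset.card_le_two (a := (0 : F)) (b := 1)
    simp_all
  simp only [Finset.mem_insert, Finset.mem_singleton, not_or] at hω
  have p1 := pre_sq ψ hs hk hZ h2 ω hω.1 hω.2
  have ti : Function.Injective (tau (F := F)) := Function.LeftInverse.injective tau_tau
  have p2 := pre_sq (tau.comp ψ) ((Function.RightInverse.surjective tau_tau).comp hs)
    (by rw [← hk]; ext x; simp [MonoidHom.mem_ker, map_eq_one_iff _ ti]) hZ h2 ω hω.1 hω.2
  refine ⟨p1, fun x hx => cent1 h2 _ fun a ha => ?_, ?_⟩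
  · obtain ⟨y, rfl⟩ := hs a
    rw [← map_mul, hx y ha, map_mul]
  obtain ⟨C, c1, c2, c3, ⟨e⟩⟩ := split ψ hs (A1 F) (A2 F) (pi.comp dm).range p1 (fun x hx => p2 x (tau2 hx)) A2_norm
    (by rw [sup_eq, index_U hF]; norm_num)
    (by rw [eq_bot_iff]; rintro _ ⟨⟨M, rfl⟩, h⟩; rw [D_inf M h, map_one]; exact one_mem _)
    (norm_eq h2 fun c hc => by simpa [hF] using FiniteField.pow_card_sub_one_eq_one c hc)
  obtain ⟨e'⟩ := D_iso h2
  exact ⟨C, c1, c2, c3, ⟨e.trans e'⟩⟩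

omit [Finite X] in
/-- normal form of the surjection onto `PSL(3,4)` -/
theorem normal_form (hF : Fintype.card F = 4) (e : X ⧸ center X ≃* PSL(3, F)) (T : Subgroup X) (hT : IsPGroup 2 T) :
    ∃ e' : X ⧸ center X ≃* PSL(3, F), T.map (e'.toMonoidHom.comp (QuotientGroup.mk' _)) ≤ U F := by
  have : Finite PSL(3, F) := Quotient.finite _
  obtain ⟨P, hP⟩ := (hT.map (e.toMonoidHom.comp (QuotientGroup.mk' _))).exists_le_sylow
  let Q : Sylow 2 PSL(3, F) := IsPGroup.toSylow (P := U F) (IsPGroup.of_card (n := 6) (by rw [card_U, hF]; norm_num))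
    (by rw [index_U hF]; norm_num)
  obtain ⟨g, hg⟩ := MulAction.exists_smul_eq PSL(3, F) P Q
  refine ⟨e.trans (MulAut.conj g), ?_⟩
  rintro _ ⟨x, hx, rfl⟩
  have : (g • P : Sylow 2 PSL(3, F)).1 = U F := by rw [hg]; rfl
  rw [← this, Sylow.coe_subgroup_smul]
  exact smul_mem_pointwise_smul _ _ _ (hP ⟨x, hx, rfl⟩)

end main

end H19.L34
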