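import Cfsg.Agent.H3.MaxCl3
import Cfsg.Agent.H3.Tate
import Cfsg.Agent.H3.Alperin
import Cfsg.Agent.H1.Coprime
import Cfsg.Agent.H1.Cores

/-! Groups with a Sylow `p`-subgroup of maximal class: uniform elements (`H19.MXD.Un`), their fusion
(`Un.fuse`, via Alperin's theorem, and `Un.unique`), `Un.fact` (the centralizer has `p`-part `p ^ 2`),
Tate's theorem for normal subgroups (`isPGroup_of_inf_le`) and the dichotomy `H19.MXD.main`. -/

set_option autoImplicit false

namespace H19.MXD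

open Subgroup Cfsg H18 H3
open scoped commutatorElement

variable {G : Type*} [Group G] [Finite G] {p n i j : ℕ} {S D N Q R : Subgroup G} {x y g : G}

/-- `x` is a uniform element of `S` -/
def Un (n : ℕ) (S : Subgroup G) (x : G) : Prop := x ∈ S ∧ ∀ j, 1 ≤ j → j ≤ n - 2 → x ∉ tsc S j

theorem Un.mem_gam (h : MX p n S) (hx : Un n S x) (hi : 2 ≤ i) (hj : j + 1 ≤ n) (hy : y ∈ gam S i)
    (hc : ⁅y, x⁆ ∈ gam S (j + 1)) : y ∈ gam S j := by
  have : ∀ k, i ≤ k → k ≤ j → y ∈ gam S k := fun k hk => by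
    induction k, hk using Nat.le_induction with
    | base => exact fun _ => hy
    | succ k hk ih =>
      exact fun e => h.un (by omega) hx.1 (hx.2 k (by omega) (by omega)) (ih (by omega)) (gam_anti (by omega) hc)
  rcases le_total i j with e | e
  · exact this j e le_rfl
  · exact gam_anti e hy

omit [Finite G] in
theorem Un.not_mem (h : MX p n S) (hx : Un n S x) : x ∉ gam S 2 := fun e =>
  hx.2 1 le_rfl (by have := h.three; omega) (gam_le_tsc e)

theorem Un.card (h : MX p n S) (hx : Un n S x) : Nat.card (S ⊓ C1(x) : Subgroup G) = p ^ 2 := by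
  have n3 := h.three
  have c1 : Nat.card (gam S (n - 1)) = p := by rw [h.card_gam (j := 1) (by omega) (by omega), pow_one]
  refine le_antisymm ?_ ?_
  · have l : S ⊓ C1(x) < S := lt_of_le_of_ne inf_le_left fun e => hx.2 1 le_rfl (by omega) ⟨hx.1, fun y hy => by
      rw [commutatorElement_eq_one_iff_mul_comm.2 (mem_C1.1 (e.ge hy).2)]; exact one_mem _⟩
    refine (h.card_le_inf l).trans ?_
    rw [pow_two]
    refine Nat.mul_le_mul_left _ (c1 ▸ card_le fun y hy => hx.mem_gam h le_rfl (by omega) hy.2 ?_)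
    rw [commutatorElement_eq_one_iff_mul_comm.2 (mem_C1.1 hy.1.2)]; exact one_mem _
  · have l : gam S (n - 1) < S ⊓ C1(x) := by
      refine lt_of_le_of_ne (fun y hy => ⟨gam_le _ hy, mem_C1.2 (commutatorElement_eq_one_iff_mul_comm.1 ?_)⟩)
        fun e => hx.not_mem h (gam_anti (by omega) (e.ge ⟨hx.1, C1_self⟩))
      have := comm_mem_gam (j := 1) hy hx.1
      rwa [h.gam_eq_bot (by omega), mem_bot] at this
    have := card_mul_le_of_lt (h.pi.of_le inf_le_left) l
    rwa [c1, ← pow_two] at this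

omit [Finite G] in
theorem Un.conj (hx : Un n S x) (hg : g ∈ N(S)) : Un n S (g⁻¹ * x * g) := by
  refine ⟨conj_mem_N' hg hx.1, fun j h1 h2 e => hx.2 j h1 h2 ⟨hx.1, fun y hy => ?_⟩⟩
  have k : ∀ i, g ∈ N(gam S i) := fun i => norm_lcs (K := N(S)) le_rfl _ hg
  have := conj_mem_N (k _) (e.2 _ (conj_mem_N' (k j) hy))
  simpa [commutatorElement_def, mul_assoc] using this

theorem Un.of_lt (h : MX p n S) (hx : Un n S x) (hD : D < S) (hxD : x ∈ D) (hy : y ∈ D) (h2 : y ∉ gam S 2) :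
    Un n S y := by
  refine ⟨hD.le hy, fun j h1 h3 e => hx.2 j h1 h3 ?_⟩
  have l : D ⊔ gam S 2 < S := lt_of_le_of_ne (sup_le hD.le (gam_le _)) fun e =>
    hD.ne (phi_nongen hD.le (by rw [h.phi_eq]; exact e.ge))
  have a := h.relIndex_of_lt le_sup_right l
  have b : gam S 2 < (D ⊔ gam S 2) ⊓ tsc S j :=
    lt_of_le_of_ne (le_inf le_sup_right gam_le_tsc) fun k => h2 (k.ge ⟨mem_sup_left hy, e⟩)
  have c := card_mul_le_of_lt (h.pi.of_le (inf_le_left.trans l.le)) b
  have d := eq_of_card_ge (inf_le_left : (D ⊔ gam S 2) ⊓ tsc S j ≤ _) (by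
    rw [← card_mul_relIndex (le_sup_right : gam S 2 ≤ D ⊔ gam S 2)]
    exact (Nat.mul_le_mul_left _ a).trans c)
  exact (d.ge (mem_sup_left hxD)).2

theorem exists_un (h : MX p n S) (hD : D < S) : ∃ x, Un n S x ∧ x ∉ D := by
  have p1 := h.prime.two_le
  have n3 := h.three
  obtain ⟨s, hs, hu⟩ := h.exists_unif
  obtain ⟨t, ht, hv⟩ := exists_not_mem_cover h.prime h.pi
    (fun i => if i = 0 then D else tsc S (min (i + 1) (n - 2))) fun i => by
      split_ifs
      · exact hD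
      · exact h.tsc_lt (by omega) (by omega)
  refine ⟨t, ⟨ht, fun j => ?_⟩, by simpa using hv 0 (by omega)⟩
  induction j using Nat.strong_induction_on with
  | _ j ihj =>
  intro h1 h2 k
  by_cases e1 : j = 1
  · exact hv 1 (by omega) (by simpa using gam_le_tsc (h.tsc_one (e1 ▸ k)))
  by_cases e2 : j ≤ p
  · refine hv (j - 1) (by omega) ?_
    rwa [if_neg (by omega), min_eq_left (by omega), Nat.sub_add_cancel h1]
  refine ihj (j + 1 - p) (by omega) (by omega) (by omega) (h.tsc_step hs hu (by omega) (by omega) ?_)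
  rwa [show j + 1 - p + p - 1 = j by omega]

theorem Un.fuse [Fact p.Prime] (P : Sylow p G) (h : MX p n (P : Subgroup G)) [hN : N.Normal]
    (h2 : gam (P : Subgroup G) 2 ≤ N) (hx : Un n P x) (hxN : x ∉ N) (g : G) (hg : g⁻¹ * x * g ∈ (P : Subgroup G)) :
    Un n P (g⁻¹ * x * g) := by
  have k : ∀ a g : G, a ∉ N → g⁻¹ * a * g ∉ N := fun a g ha e => ha (by simpa [mul_assoc] using hN.conj_mem _ e g)
  refine alperin_induction_aux P (fun A g => ∀ a ∈ A, a ∉ N → Un n (P : Subgroup G) a → Un n (P : Subgroup G) (g⁻¹ * a * g))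
    (fun A B g l r a ha => r a (l ha)) (fun A B g g' l r r' a ha h1 h3 => ?_)
    (fun D hD _ _ y hy a ha h1 h3 => ?_) (zpowers x) (zpowers_le.2 hx.1) g ?_ x (mem_zpowers x) hxN hx
  · simpa [mul_assoc] using r' _ (l a ha) (k a g h1) (r a ha h1 h3)
  · rcases hD.eq_or_lt with rfl | l
    · exact h3.conj hy
    · exact h3.of_lt h l ha (conj_mem_N' hy ha) fun e => k a y h1 (h2 e)
  · rintro _ ⟨m, rfl⟩
    have := zpow_mem hg m
    rwa [show g⁻¹ * x * g = g⁻¹ * x * g⁻¹⁻¹ by rw [inv_inv], conj_zpow, inv_inv] at this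

theorem Un.fact (hP : Hall {p} S ⊤) (h : MX p n S) (hx : Un n S x)
    (hf : ∀ g, g⁻¹ * x * g ∈ S → Un n S (g⁻¹ * x * g)) : (Nat.card C1(x)).factorization p = 2 := by
  have hp := h.prime
  obtain ⟨T, hT, l⟩ := exists_sylow_le hp (h.pi.of_le inf_le_left) (inf_le_right : S ⊓ C1(x) ≤ C1(x))
  obtain ⟨g, -, hg⟩ := sylow_le_cj' hp hP hT.pi le_top
  have hxT : x ∈ T := l ⟨hx.1, C1_self⟩
  have c : Nat.card T = p ^ 2 := by
    refine le_antisymm ?_ (hx.card h ▸ card_le l)
    rw [← (hf g (mem_cj.1 (hg hxT))).card h, ← card_cj (g := g⁻¹)]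
    refine card_le fun y hy => ?_
    have h1 := mem_cj.1 hy
    refine ⟨by simpa [mul_assoc] using mem_cj.1 (hg h1), mem_C1.2 ?_⟩
    have h2 := mem_C1.1 (hT.le h1)
    rw [inv_inv] at h2
    calc y * (g⁻¹ * x * g) = g⁻¹ * (g * y * g⁻¹ * x) * g := by group
      _ = _ := by rw [h2]; group
  rw [← card_mul_relIndex hT.le, c, Nat.factorization_mul (pow_pos hp.pos 2).ne' H18.relIndex_ne_zero,
    hp.factorization_pow, Finsupp.add_apply, Finsupp.single_eq_same,
    Nat.factorization_eq_zero_of_not_dvd ((piNat_compl_iff hp).1 hT.idx)]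

theorem Un.unique (hP : Hall {p} S ⊤) (h : MX p n S) (hx : Un n S x) (hi : 2 ≤ i) (hR : gam S i ⊴ ⊤)
    (hC : C(gam S i) ≤ S) (hQ : Hall {p} Q ⊤) (hxQ : x ∈ Q) : Q = S := by
  have hp := h.prime
  have n3 := h.three
  have hRQ : gam S i ≤ Q := hQ.nml_le hR (h.pi.of_le (gam_le _))
  have k1 : ∀ d j, i ≤ j → n ≤ j + d → ⁅gam S j, Q⁆ ≤ gam S (j + 1) := fun d => by
    induction d with
    | zero => intro j _ h2; rw [h.gam_eq_bot (i := j) h2, commutator_bot_left]; exact bot_le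
    | succ d ih =>
      intro j h1 h2
      by_cases e : n ≤ j
      · rw [h.gam_eq_bot (i := j) e, commutator_bot_left]; exact bot_le
      obtain ⟨W, w1, w2, w3, w4⟩ := exists_nml_above hQ.pi
        (norm_iff_comm_le'.2 ((ih (j + 1) (by omega) (by omega)).trans (gam_anti (by omega))))
        ⟨hRQ, le_top.trans hR.norm⟩ ((h.gam_lt (i := j) (by omega) (by omega)).trans_le (gam_anti h1))
      have w5 : W ≤ gam S j := fun y hy =>
        hx.mem_gam h hi (by omega) (w2 hy) (w3 (commutator_mem_commutator hy hxQ))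
      rwa [← eq_of_card_ge w5 (by
        rw [w4, ← card_mul_relIndex (gam_anti (H := S) j.le_succ), h.relIndex_gam (by omega) (by omega)])]
  have k2 : ∀ j, i ≤ j → ⁅gam S j, S ⊔ Q⁆ ≤ gam S (j + 1) := fun j hj =>
    comm_sup_le' (comm_gam_le j 1) (k1 n j hj (by omega)) (gam_nml _).norm
      (norm_iff_comm_le'.2 ((k1 n (j + 1) (by omega) (by omega)).trans (gam_anti (by omega))))
  have k3 : PiGrp {p} (S ⊔ Q) := piGrp_of_prime_elt fun u hu hq => by
    by_contra hne
    have c := H1.commutator_commutator_eq (K := gam S i) (A := zpowers u) (le_top.trans hR.norm)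
      ((PiElt.zpowers (π := {p}ᶜ) ((piNat_prime hq).2 hne)).coprime' (h.pi.of_le (gam_le i)))
    have l : zpowers u ≤ S ⊔ Q := zpowers_le.2 hu
    have : ∀ j, i ≤ j → ⁅gam S i, zpowers u⁆ ≤ gam S j := fun j hj => by
      induction j, hj using Nat.le_induction with
      | base => exact comm_le_left (le_top.trans hR.norm)
      | succ j hj ih => rw [← c]; exact (comm_mono ih l).trans (k2 j hj)
    have e := this (max i n) (le_max_left _ _)
    rw [h.gam_eq_bot (le_max_right _ _), le_bot_iff, comm_comm, comm_eq_bot_iff] at e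
    exact hne ((piNat_prime hq).1 (h.pi.elt (hC (e (mem_zpowers u)))))
  exact (hQ.eq_of_le le_sup_right le_top k3).symm.trans (hP.eq_of_le le_sup_left le_top k3)

theorem isPGroup_of_inf_le [Fact p.Prime] (P : Sylow p G) (hcore : pPrimeCore p G = ⊥) [hN : N.Normal]
    (h : N ⊓ P ≤ ⁅(P : Subgroup G), (P : Subgroup G)⁆) : IsPGroup p N := by
  have hp : p.Prime := Fact.out
  obtain ⟨H, hH⟩ : ∃ H, H = N ⊔ P := ⟨_, rfl⟩
  have l1 : N ≤ H := hH ▸ le_sup_left
  have l2 : (P : Subgroup G) ≤ H := hH ▸ le_sup_right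
  have k1 : pResidual p H ≤ N.subgroupOf H := by
    obtain ⟨k, hk⟩ := ((hall_sylow_top hp P).pi.relIndex (A := N)).eq_pow H18.relIndex_ne_zero
    refine pResidual_le_of_index_eq_pow _ (k := k) ?_
    rw [← hk, ← relIndex, hH, sup_comm, relIndex_sup_of_norm norm_of_normal]
  have k2 := (hasNormalPComplement_iff_inf_eq_bot (P.subtype l2)).1
    (hasNormalPComplement_of_pResidual_inf_le (P.subtype l2) fun x hx => by
      have := h ⟨k1 hx.1, hx.2⟩
      rw [← map_subgroupOf_eq_of_le l2, ← map_commutator] at this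
      obtain ⟨y, hy, e⟩ := this
      exact Subtype.ext e ▸ hy)
  have k3 : (pResidual p N).map N.subtype ⊴ ⊤ :=
    ⟨le_top, (norm_of_normal (K := N)).trans (normalizer_le_normalizer_map_subtype_pResidual N)⟩
  have k4 := (hall_sylow_top hp P).inf_nml k3
  rw [show (P : Subgroup G) ⊓ (pResidual p N).map N.subtype = ⊥ from eq_bot_iff.2 fun x hx => by
    obtain ⟨y, hy, rfl⟩ := map_subtype_pResidual_mono l1 hx.2
    have : y ∈ (⊥ : Subgroup H) := k2 ▸ ⟨hy, hx.1⟩
    rw [mem_bot.1 this]; exact one_mem _] at k4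
  have := k3.normal
  exact pResidual_eq_bot_iff.1 ((map_eq_bot_iff_of_injective _ N.subtype_injective).1
    (H1.eq_bot_of_pPrimeCore_eq_bot hcore ((piNat_compl_iff_coprime hp).1 k4.compl_of_eq_bot)))

theorem main [Fact p.Prime] (P : Sylow p G) (h : MX p n (P : Subgroup G)) (hcore : pPrimeCore p G = ⊥)
    (hres : ∀ N : Subgroup G, N.Normal → N.index.Coprime p → N = ⊤) :
    (∃ x ∈ (P : Subgroup G), (Nat.card C1(x)).factorization p = 2) ∨
      (IsQuasisimple G ∧ Nat.card (center G) ≤ p) := by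
  have hp := h.prime
  have n3 := h.three
  have hP := hall_sylow_top hp P
  by_cases hA : ∃ N : Subgroup G, N.Normal ∧ N ≠ ⊤ ∧ gam (P : Subgroup G) 2 ≤ N
  · obtain ⟨N, hN, h1, h2⟩ := hA
    obtain ⟨x, hx, hxN⟩ := exists_un (D := N ⊓ P) h (lt_of_le_of_ne inf_le_right fun e => h1 (hres N hN
      ((piNat_compl_iff_coprime hp).1 (by simpa using hP.idx_of_le (e.ge.trans inf_le_left)))))
    exact Or.inl ⟨x, hx.1, hx.fact hP h (hx.fuse P h h2 fun e => hxN ⟨e, hx.1⟩)⟩
  push Not at hA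
  have k1 : ∀ N : Subgroup G, N.Normal → N ≠ ⊤ → ∃ i, 2 ≤ i ∧ N ⊓ P = gam (P : Subgroup G) i := fun N hN h1 => by
    have n1 : N ⊓ P ⊴ (P : Subgroup G) := ⟨inf_le_right, norm_inf norm_of_normal le_N⟩
    obtain ⟨r, hr⟩ := (h.pi.relIndex (A := N ⊓ P)).eq_pow H18.relIndex_ne_zero
    by_cases e : 2 ≤ r
    · exact ⟨r, e, h.eq_gam n1 e hr⟩
    · exact (hA N hN h1 ((der_le_of_relIndex_dvd_sq hp n1.norm (hr ▸ pow_dvd_pow p (by omega))).trans
        inf_le_left)).elim
  have k2 : ∀ N : Subgroup G, N.Normal → N ≠ ⊤ → N ≤ pCore p G := fun N hN h1 => by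
    obtain ⟨i, hi, e⟩ := k1 N hN h1
    exact H1.le_pCore (isPGroup_of_inf_le P hcore (e.le.trans (gam_anti hi)))
  have k3 : pCore p G ≠ ⊤ := fun e => hA (gam (P : Subgroup G) 2) (nml_top_iff.1 (by
    rw [← top_le_iff.1 (e.ge.trans (H1.pCore_le_sylow P))]; exact gam_nml _))
    (fun e' => h.not_abel (by
      have := h.relIndex_der
      rw [← gam_two, e', relIndex_top_left] at this
      exact absurd this.symm (by nlinarith [hp.two_le]))) le_rfl
  obtain ⟨i, hi, e⟩ := k1 _ inferInstance k3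
  rw [inf_of_le_left (H1.pCore_le_sylow P)] at e
  by_cases hC : C(pCore p G) = ⊤
  · have k4 : center G = pCore p G := le_antisymm (k2 _ inferInstance fun e =>
      h.not_abel (cent_iff.2 fun a _ b _ => (mem_center_iff.1 (e.ge (mem_top b)) a)))
      fun a ha => mem_center_iff.2 fun b => (mem_C.1 (hC.ge (mem_top b)) a ha).symm
    refine Or.inr ⟨⟨⟨by_contra fun hne => hA _ inferInstance hne (comm_mono le_top le_top)⟩, ?_⟩, ?_⟩
    · have : Nontrivial (G ⧸ center G) := QuotientGroup.nontrivial_iff.2 (k4 ▸ k3)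
      refine ⟨fun M hM => ?_⟩
      by_cases h1 : M.comap (QuotientGroup.mk' (center G)) = ⊤
      · exact Or.inr (comap_injective (QuotientGroup.mk'_surjective _) (h1.trans (comap_top _).symm))
      · refine Or.inl (eq_bot_iff.2 fun y hy => ?_)
        obtain ⟨y, rfl⟩ := QuotientGroup.mk'_surjective _ y
        exact mem_bot.2 ((QuotientGroup.eq_one_iff y).2 (k4 ▸ k2 _ (hM.comap _) h1 hy))
    · obtain ⟨x, hx, -⟩ := exists_un h (bot_lt_iff_ne_bot.2 fun e => h.not_abel (e ▸ bot_le))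
      rw [← pow_one p, ← h.card_gam (i := n - 1) (by omega) (by omega)]
      refine card_le fun y hy => hx.mem_gam h hi (by omega) (e ▸ k4 ▸ hy) ?_
      rw [commutatorElement_eq_one_iff_mul_comm.2 (mem_center_iff.1 hy x).symm]; exact one_mem _
  · obtain ⟨x, hx, -⟩ := exists_un h (bot_lt_iff_ne_bot.2 fun e => h.not_abel (e ▸ bot_le))
    refine Or.inl ⟨x, hx.1, hx.fact hP h fun g hg => hx.conj (mem_N_iff_cj.2 ?_)⟩
    exact hx.unique hP h hi (e ▸ nml_top) (e ▸ (k2 _ inferInstance hC).trans (H1.pCore_le_sylow P))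
      (hP.cj_top g) (mem_cj.2 hg)

end H19.MXD
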